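import Mathlib

/-!
# Finite presentations: the predicate `HasPres G k m` (helper111, cluster S2284-S2297)

* `HasPres G k m` : `G` has a presentation with `k` generators and at most `m` relators (in the form in which
  the statements S2284-S2297 use it).
* `Quo P G m` : `G` is the quotient of `P` by the normal closure of at most `m` elements.
* `HasPres.of_mulEquiv`, `.mono`, `.succ`, `.coprod`, `.quo`, `.change`, `.centerQuo`, `hasPres_free`.
* `Quo.of_inj` : the criterion used in practice.
-/

set_option autoImplicit false

namespace Cfsg.Agent.H111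

/-- `G` has a presentation with `k` generators and at most `m` relators. -/
def HasPres (G : Type*) [Group G] (k m : ℕ) : Prop :=
  ∃ rels : Finset (FreeGroup (Fin k)), rels.card ≤ m ∧
    Nonempty (PresentedGroup (↑rels : Set (FreeGroup (Fin k))) ≃* G)

/-- `G` is the quotient of `P` by the normal closure of at most `m` elements. -/
def Quo (P G : Type*) [Group P] [Group G] (m : ℕ) : Prop :=
  ∃ (f : P →* G) (R : Finset P), Function.Surjective f ∧ R.card ≤ m ∧
    f.ker = Subgroup.normalClosure (↑R : Set P)

theorem hasPres_iff {G : Type*} [Group G] {k m : ℕ} : HasPres G k m ↔ Quo (FreeGroup (Fin k)) G m := by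
  constructor
  · rintro ⟨R, hR, ⟨e⟩⟩
    refine ⟨e.toMonoidHom.comp (PresentedGroup.mk (↑R : Set (FreeGroup (Fin k)))), R, ?_, hR, ?_⟩
    · exact e.surjective.comp (PresentedGroup.mk_surjective _)
    · ext x
      rw [MonoidHom.mem_ker, MonoidHom.comp_apply]
      change e _ = 1 ↔ _
      rw [map_eq_one_iff e e.injective]
      exact QuotientGroup.eq_one_iff x
  · rintro ⟨f, R, hf, hR, hk⟩
    refine ⟨R, hR, ⟨?_⟩⟩
    exact (QuotientGroup.quotientMulEquivOfEq hk.symm).trans (QuotientGroup.quotientKerEquivOfSurjective f hf)

namespace Quo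

variable {P G H : Type*} [Group P] [Group G] [Group H] {m m' : ℕ}

theorem mono (h : Quo P G m) (hm : m ≤ m') : Quo P G m' := by
  obtain ⟨f, R, h1, h2, h3⟩ := h
  exact ⟨f, R, h1, h2.trans hm, h3⟩

theorem of_mulEquiv (e : P ≃* G) : Quo P G 0 :=
  ⟨e.toMonoidHom, ∅, e.surjective, by simp, by
    rw [Finset.coe_empty, Subgroup.normalClosure_empty]
    exact (MonoidHom.ker_eq_bot_iff _).2 e.injective⟩

theorem trans (h1 : Quo P G m) (h2 : Quo G H m') : Quo P H (m + m') := by
  classical
  obtain ⟨f, R, hf, hR, hk⟩ := h1
  obtain ⟨g, S, hg, hS, hk'⟩ := h2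
  refine ⟨g.comp f, R ∪ S.image (Function.surjInv hf), hg.comp hf, ?_, ?_⟩
  · exact (Finset.card_union_le _ _).trans (add_le_add hR (Finset.card_image_le.trans hS))
  · apply le_antisymm
    · intro x hx
      rw [MonoidHom.mem_ker, MonoidHom.comp_apply, ← MonoidHom.mem_ker, hk'] at hx
      have key : Subgroup.normalClosure (↑S : Set G) ≤
          (Subgroup.normalClosure (↑(R ∪ S.image (Function.surjInv hf)) : Set P)).map f := by
        have : ((Subgroup.normalClosure (↑(R ∪ S.image (Function.surjInv hf)) : Set P)).map f).Normal :=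
          Subgroup.Normal.map inferInstance f hf
        apply Subgroup.normalClosure_le_normal
        intro s hs
        refine ⟨Function.surjInv hf s, Subgroup.subset_normalClosure ?_, Function.surjInv_eq hf s⟩
        simp only [Finset.coe_union, Finset.coe_image]
        exact Or.inr ⟨s, hs, rfl⟩
      obtain ⟨y, hy, e⟩ := key hx
      have h3 : x * y⁻¹ ∈ f.ker := by
        rw [MonoidHom.mem_ker, map_mul, map_inv, e, mul_inv_cancel]
      rw [hk] at h3
      have h4 : Subgroup.normalClosure (↑R : Set P) ≤
          Subgroup.normalClosure (↑(R ∪ S.image (Function.surjInv hf)) : Set P) := by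
        apply Subgroup.normalClosure_mono
        intro z hz
        simp only [Finset.coe_union]
        exact Or.inl hz
      have h5 := Subgroup.mul_mem _ (h4 h3) hy
      simpa using h5
    · apply Subgroup.normalClosure_le_normal
      intro x hx
      simp only [Finset.coe_union, Finset.coe_image] at hx
      rcases hx with hx | ⟨s, hs, rfl⟩
      · have : x ∈ f.ker := by rw [hk]; exact Subgroup.subset_normalClosure hx
        rw [MonoidHom.mem_ker] at this
        simp [MonoidHom.mem_ker, this]
      · have : s ∈ g.ker := by rw [hk']; exact Subgroup.subset_normalClosure hs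
        rw [MonoidHom.mem_ker] at this
        simp [MonoidHom.mem_ker, Function.surjInv_eq hf s, this]

/-- The criterion: relators of the list `R` hold in `G`, and every intermediate quotient of `P` in which
they hold is `G`. -/
theorem of_inj {P : Type*} {G : Type*} [Group P] [Group G] (f : P →* G) (hf : Function.Surjective f)
    (R : List P) (hR : ∀ r ∈ R, f r = 1)
    (h : ∀ (φ : P →* P ⧸ Subgroup.normalClosure {r | r ∈ R}) (θ : P ⧸ Subgroup.normalClosure {r | r ∈ R} →* G),
      Function.Surjective φ → (∀ p, θ (φ p) = f p) → (∀ r ∈ R, φ r = 1) → Function.Injective θ) :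
    Quo P G R.length := by
  classical
  have hle : Subgroup.normalClosure {r | r ∈ R} ≤ f.ker :=
    Subgroup.normalClosure_le_normal fun r hr => hR r hr
  refine ⟨f, R.toFinset, hf, List.toFinset_card_le R, ?_⟩
  have hset : (↑R.toFinset : Set P) = {r | r ∈ R} := by ext; simp
  rw [hset]
  refine le_antisymm ?_ hle
  intro x hx
  have h1 := h (QuotientGroup.mk' _) (QuotientGroup.lift _ f hle) (QuotientGroup.mk'_surjective _)
    (fun p => rfl) (fun r hr => (QuotientGroup.eq_one_iff r).2 (Subgroup.subset_normalClosure hr))
  have h2 : (QuotientGroup.mk' (Subgroup.normalClosure {r | r ∈ R})) x = 1 := by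
    apply h1
    rw [map_one]
    exact hx
  exact (QuotientGroup.eq_one_iff x).1 h2

/-- The criterion, universal version (all groups in one universe). -/
theorem of_univ {P : Type*} {G : Type*} [Group P] [Group G] (f : P →* G) (hf : Function.Surjective f)
    (R : List P) (hR : ∀ r ∈ R, f r = 1)
    (h : ∀ (φ : P →* P ⧸ Subgroup.normalClosure {r | r ∈ R}), (∀ r ∈ R, φ r = 1) → f.ker ≤ φ.ker) :
    Quo P G R.length := by
  refine of_inj f hf R hR fun φ θ hφ hθ hr => ?_
  rw [injective_iff_map_eq_one]
  intro a ha
  obtain ⟨p, rfl⟩ := hφ a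
  rw [hθ] at ha
  exact h φ hr ha

/-- quotient by a normal subgroup which is the normal closure of a list -/
theorem of_normalClosure (N : Subgroup P) [N.Normal] (R : List P)
    (h : N = Subgroup.normalClosure {r | r ∈ R}) : Quo P (P ⧸ N) R.length := by
  classical
  refine ⟨QuotientGroup.mk' N, R.toFinset, QuotientGroup.mk'_surjective N, List.toFinset_card_le R, ?_⟩
  have hset : (↑R.toFinset : Set P) = {r | r ∈ R} := by ext; simp
  rw [hset, QuotientGroup.ker_mk', h]

theorem coprod_map_surjective {P' G' : Type*} [Group P'] [Group G'] {f : P →* G} {f' : P' →* G'}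
    (hf : Function.Surjective f) (hf' : Function.Surjective f') :
    Function.Surjective (Monoid.Coprod.map f f') := by
  intro x
  induction x using Monoid.Coprod.induction_on with
  | inl g =>
    obtain ⟨p, rfl⟩ := hf g
    exact ⟨Monoid.Coprod.inl p, Monoid.Coprod.map_apply_inl _ _ _⟩
  | inr g =>
    obtain ⟨p, rfl⟩ := hf' g
    exact ⟨Monoid.Coprod.inr p, Monoid.Coprod.map_apply_inr _ _ _⟩
  | mul x y hx hy =>
    obtain ⟨a, rfl⟩ := hx
    obtain ⟨b, rfl⟩ := hy
    exact ⟨a * b, map_mul _ _ _⟩

/-- coproducts -/
theorem coprod {P' G' : Type*} [Group P'] [Group G'] (h : Quo P G m) (h' : Quo P' G' m') :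
    Quo (Monoid.Coprod P P') (Monoid.Coprod G G') (m + m') := by
  classical
  obtain ⟨f, R, hf, hR, hk⟩ := h
  obtain ⟨f', R', hf', hR', hk'⟩ := h'
  set N := Subgroup.normalClosure (↑(R.image (Monoid.Coprod.inl : P →* Monoid.Coprod P P') ∪
      R'.image (Monoid.Coprod.inr : P' →* Monoid.Coprod P P')) : Set (Monoid.Coprod P P')) with hN
  refine ⟨Monoid.Coprod.map f f', R.image (Monoid.Coprod.inl : P →* Monoid.Coprod P P') ∪
      R'.image (Monoid.Coprod.inr : P' →* Monoid.Coprod P P'), coprod_map_surjective hf hf', ?_, ?_⟩
  · exact (Finset.card_union_le _ _).trans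
      (add_le_add (Finset.card_image_le.trans hR) (Finset.card_image_le.trans hR'))
  · apply le_antisymm
    · -- the inverse homomorphism
      have h1 : f.ker ≤ ((QuotientGroup.mk' N).comp Monoid.Coprod.inl).ker := by
        rw [hk]
        apply Subgroup.normalClosure_le_normal
        intro r hr
        have : Monoid.Coprod.inl r ∈ N := by
          apply Subgroup.subset_normalClosure
          simp only [Finset.coe_union, Finset.coe_image]
          exact Or.inl ⟨r, hr, rfl⟩
        exact (QuotientGroup.eq_one_iff _).2 this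
      have h2 : f'.ker ≤ ((QuotientGroup.mk' N).comp Monoid.Coprod.inr).ker := by
        rw [hk']
        apply Subgroup.normalClosure_le_normal
        intro r hr
        have : Monoid.Coprod.inr r ∈ N := by
          apply Subgroup.subset_normalClosure
          simp only [Finset.coe_union, Finset.coe_image]
          exact Or.inr ⟨r, hr, rfl⟩
        exact (QuotientGroup.eq_one_iff _).2 this
      let g1 : G →* Monoid.Coprod P P' ⧸ N := f.liftOfSurjective hf ⟨_, h1⟩
      let g2 : G' →* Monoid.Coprod P P' ⧸ N := f'.liftOfSurjective hf' ⟨_, h2⟩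
      have e : (Monoid.Coprod.lift g1 g2).comp (Monoid.Coprod.map f f') = QuotientGroup.mk' N := by
        apply Monoid.Coprod.hom_ext
        · ext x
          simp only [MonoidHom.comp_apply, Monoid.Coprod.map_apply_inl, Monoid.Coprod.lift_apply_inl]
          exact f.liftOfRightInverse_comp_apply _ _ ⟨_, h1⟩ x
        · ext x
          simp only [MonoidHom.comp_apply, Monoid.Coprod.map_apply_inr, Monoid.Coprod.lift_apply_inr]
          exact f'.liftOfRightInverse_comp_apply _ _ ⟨_, h2⟩ x
      intro x hx
      have h3 := DFunLike.congr_fun e x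
      rw [MonoidHom.comp_apply, (MonoidHom.mem_ker).1 hx, map_one] at h3
      exact (QuotientGroup.eq_one_iff x).1 h3.symm
    · apply Subgroup.normalClosure_le_normal
      intro x hx
      simp only [Finset.coe_union, Finset.coe_image] at hx
      rcases hx with ⟨r, hr, rfl⟩ | ⟨r, hr, rfl⟩
      · have : r ∈ f.ker := by rw [hk]; exact Subgroup.subset_normalClosure hr
        rw [MonoidHom.mem_ker] at this
        simp [MonoidHom.mem_ker, this]
      · have : r ∈ f'.ker := by rw [hk']; exact Subgroup.subset_normalClosure hr
        rw [MonoidHom.mem_ker] at this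
        simp [MonoidHom.mem_ker, this]

end Quo

/-- the free product of two free groups -/
noncomputable def freeCoprod (α β : Type*) : FreeGroup (α ⊕ β) ≃* Monoid.Coprod (FreeGroup α) (FreeGroup β) :=
  MonoidHom.toMulEquiv
    (FreeGroup.lift (Sum.elim (fun a => Monoid.Coprod.inl (FreeGroup.of a)) fun b => Monoid.Coprod.inr (FreeGroup.of b)))
    (Monoid.Coprod.lift (FreeGroup.map Sum.inl) (FreeGroup.map Sum.inr))
    (by ext x; rcases x with x | x <;> simp)
    (by
      apply Monoid.Coprod.hom_ext
      · ext x; simp
      · ext x; simp)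

namespace HasPres

variable {G H : Type*} [Group G] [Group H] {k k' m m' : ℕ}

theorem mono (h : HasPres G k m) (hm : m ≤ m') : HasPres G k m' := by
  obtain ⟨R, h1, h2⟩ := h
  exact ⟨R, h1.trans hm, h2⟩

theorem of_mulEquiv (h : HasPres G k m) (e : G ≃* H) : HasPres H k m := by
  obtain ⟨R, h1, ⟨f⟩⟩ := h
  exact ⟨R, h1, ⟨f.trans e⟩⟩

theorem quo (h : HasPres G k m) (h' : Quo G H m') : HasPres H k (m + m') :=
  hasPres_iff.2 ((hasPres_iff.1 h).trans h')

theorem quo_le {a : ℕ} (h : HasPres G k m) (h' : Quo G H m') (ha : m + m' ≤ a) : HasPres H k a :=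
  (h.quo h').mono ha

theorem free (k : ℕ) : HasPres (FreeGroup (Fin k)) k 0 :=
  hasPres_iff.2 (Quo.of_mulEquiv (MulEquiv.refl _))

theorem coprod (h : HasPres G k m) (h' : HasPres H k' m') : HasPres (Monoid.Coprod G H) (k + k') (m + m') := by
  rw [hasPres_iff] at *
  have h1 := h.coprod h'
  have e : FreeGroup (Fin (k + k')) ≃* Monoid.Coprod (FreeGroup (Fin k)) (FreeGroup (Fin k')) :=
    (FreeGroup.freeGroupCongr finSumFinEquiv.symm).trans (freeCoprod _ _)
  have := (Quo.of_mulEquiv e).trans h1
  rwa [zero_add] at this

/-- a superfluous generator costs one relator -/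
theorem succ (h : HasPres G k m) : HasPres G (k + 1) (m + 1) := by
  have h1 := h.coprod (free 1)
  rw [add_zero] at h1
  refine h1.quo (Quo.of_univ (Monoid.Coprod.lift (MonoidHom.id G) 1) ?_ [Monoid.Coprod.inr (FreeGroup.of 0)] ?_ ?_)
  · intro x; exact ⟨Monoid.Coprod.inl x, by simp⟩
  · intro r hr
    rw [List.mem_singleton] at hr
    subst hr; simp
  · intro φ hφ x hx
    have h2 := hφ _ (List.mem_singleton.2 rfl)
    have e : φ = (φ.comp Monoid.Coprod.inl).comp (Monoid.Coprod.lift (MonoidHom.id G) 1) := by
      apply Monoid.Coprod.hom_ext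
      · ext y; simp
      · ext y
        have : y = 0 := Subsingleton.elim _ _
        subst this
        simpa using h2
    rw [MonoidHom.mem_ker] at hx ⊢
    rw [e, MonoidHom.comp_apply, hx, map_one]

theorem add (h : HasPres G k m) (j : ℕ) : HasPres G (k + j) (m + j) := by
  induction j with
  | zero => exact h
  | succ j ih => exact ih.succ

theorem add_le (h : HasPres G k m) {j a b : ℕ} (hb : k + j = b) (ha : m + j ≤ a) : HasPres G b a := by
  subst hb
  exact (h.add j).mono ha

/-- **Change of generators**: if `G` is generated by `k'` elements and has a presentation with `m` relators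
(any number of generators) then it has a presentation on these `k'` generators with `m + k'` relators. -/
theorem change (h : HasPres G k m) (g : Fin k' → G) (hg : Subgroup.closure (Set.range g) = ⊤) :
    HasPres G k' (m + k') := by
  classical
  obtain ⟨f, R, hf, hR, hk⟩ := hasPres_iff.1 h
  have hs : Function.Surjective (FreeGroup.lift g) := by
    rw [← MonoidHom.range_eq_top, FreeGroup.range_lift_eq_closure, hg]
  let α : FreeGroup (Fin k) →* FreeGroup (Fin k') :=
    FreeGroup.lift fun i => Function.surjInv hs (f (FreeGroup.of i))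
  have hα : ∀ x, FreeGroup.lift g (α x) = f x := by
    intro x
    have : (FreeGroup.lift g).comp α = f := by
      ext i
      simp only [α, MonoidHom.comp_apply, FreeGroup.lift_apply_of]
      exact Function.surjInv_eq hs _
    exact DFunLike.congr_fun this x
  let v : Fin k' → FreeGroup (Fin k) := fun j => Function.surjInv hf (g j)
  have hv : ∀ j, f (v j) = g j := fun j => Function.surjInv_eq hf _
  let L : List (FreeGroup (Fin k')) := R.toList.map α ++ (List.finRange k').map fun j => (FreeGroup.of j)⁻¹ * α (v j)
  have hL : Quo (FreeGroup (Fin k')) G L.length := by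
    refine Quo.of_univ (FreeGroup.lift g) hs L ?_ ?_
    · intro r hr
      simp only [L, List.mem_append, List.mem_map, Finset.mem_toList, List.mem_finRange, true_and] at hr
      rcases hr with ⟨x, hx, rfl⟩ | ⟨j, rfl⟩
      · rw [hα]
        have : x ∈ f.ker := by rw [hk]; exact Subgroup.subset_normalClosure hx
        exact this
      · rw [map_mul, map_inv, hα, hv, FreeGroup.lift_apply_of, inv_mul_cancel]
    · intro φ hφ x hx
      have h1 : f.ker ≤ (φ.comp α).ker := by
        rw [hk]
        apply Subgroup.normalClosure_le_normal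
        intro r hr
        exact hφ (α r) (by
          simp only [L, List.mem_append, List.mem_map, Finset.mem_toList]
          exact Or.inl ⟨r, hr, rfl⟩)
      let ψ := f.liftOfSurjective hf ⟨_, h1⟩
      have hψ : ∀ y, ψ (f y) = φ (α y) := fun y => f.liftOfRightInverse_comp_apply _ _ ⟨_, h1⟩ y
      have e : ψ.comp (FreeGroup.lift g) = φ := by
        ext j
        rw [MonoidHom.comp_apply, FreeGroup.lift_apply_of, ← hv, hψ]
        have h2 := hφ ((FreeGroup.of j)⁻¹ * α (v j)) (by
          simp only [L, List.mem_append, List.mem_map, List.mem_finRange, true_and]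
          exact Or.inr ⟨j, rfl⟩)
        rw [map_mul, map_inv, inv_mul_eq_one] at h2
        exact h2.symm
      rw [MonoidHom.mem_ker, ← e, MonoidHom.comp_apply, (MonoidHom.mem_ker).1 hx, map_one]
  refine (hasPres_iff.2 hL).mono ?_
  simp only [L, List.length_append, List.length_map, Finset.length_toList, List.length_finRange]
  omega

/-- two generators -/
theorem change_two (h : HasPres G k m) (a b : G) (hab : Subgroup.closure {a, b} = ⊤) : HasPres G 2 (m + 2) := by
  refine h.change ![a, b] ?_
  rw [Matrix.range_cons, Matrix.range_cons, Matrix.range_empty, Set.union_empty]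
  exact hab

/-- quotient by the normal closure of one element -/
theorem quo_one (h : HasPres G k m) (N : Subgroup G) [N.Normal] (z : G) (hz : N = Subgroup.normalClosure {z}) :
    HasPres (G ⧸ N) k (m + 1) := by
  refine h.quo (Quo.of_normalClosure N [z] ?_)
  rw [hz]; congr 1; ext x; simp

/-- the quotient by a cyclic centre costs one relator -/
theorem centerQuo (h : HasPres G k m) (hc : IsCyclic (Subgroup.center G)) :
    HasPres (G ⧸ Subgroup.center G) k (m + 1) := by
  obtain ⟨⟨z, hz⟩, hg⟩ := hc
  refine h.quo_one _ z (le_antisymm ?_ ?_)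
  · intro x hx
    obtain ⟨n, hn⟩ := hg ⟨x, hx⟩
    have : x = z ^ n := by
      have := congrArg Subtype.val hn
      simpa using this.symm
    rw [this]
    exact Subgroup.zpow_mem _ (Subgroup.subset_normalClosure (Set.mem_singleton z)) n
  · exact Subgroup.normalClosure_le_normal (Set.singleton_subset_iff.2 hz)

end HasPres

end Cfsg.Agent.H111
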