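import Mathlib

/-!
# `SL(2, F)` acting on the plane (helper111, cluster S2284-S2297)
-/

set_option autoImplicit false

namespace Cfsg.Agent.H111

open Matrix

variable {F : Type*} [Field F]

/-- The plane form. -/
def dd (x y : Fin 2 → F) : F := x 0 * y 1 - x 1 * y 0

theorem dd_self (x : Fin 2 → F) : dd x x = 0 := by simp only [dd]; ring
theorem dd_swap (x y : Fin 2 → F) : dd x y = - dd y x := by simp only [dd]; ring
theorem dd_add_left (x y z : Fin 2 → F) : dd (x + y) z = dd x z + dd y z := by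
  simp only [dd, Pi.add_apply]; ring
theorem dd_add_right (x y z : Fin 2 → F) : dd x (y + z) = dd x y + dd x z := by
  simp only [dd, Pi.add_apply]; ring
theorem dd_smul_left (a : F) (x y : Fin 2 → F) : dd (a • x) y = a * dd x y := by
  simp only [dd, Pi.smul_apply, smul_eq_mul]; ring
theorem dd_smul_right (a : F) (x y : Fin 2 → F) : dd x (a • y) = a * dd x y := by
  simp only [dd, Pi.smul_apply, smul_eq_mul]; ring
@[simp] theorem dd_zero_left (x : Fin 2 → F) : dd 0 x = 0 := by simp [dd]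
@[simp] theorem dd_zero_right (x : Fin 2 → F) : dd x 0 = 0 := by simp [dd]
theorem dd_neg_left (x y : Fin 2 → F) : dd (-x) y = - dd x y := by
  simp only [dd, Pi.neg_apply]; ring
theorem dd_neg_right (x y : Fin 2 → F) : dd x (-y) = - dd x y := by
  simp only [dd, Pi.neg_apply]; ring
theorem dd_sub_left (x y z : Fin 2 → F) : dd (x - y) z = dd x z - dd y z := by
  simp only [dd, Pi.sub_apply]; ring
theorem dd_sub_right (x y z : Fin 2 → F) : dd x (y - z) = dd x y - dd x z := by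
  simp only [dd, Pi.sub_apply]; ring

/-- The action. -/
def ac (g : SpecialLinearGroup (Fin 2) F) (v : Fin 2 → F) : Fin 2 → F := g.1 *ᵥ v

theorem ac_apply_zero (g : SpecialLinearGroup (Fin 2) F) (v : Fin 2 → F) :
    ac g v 0 = g.1 0 0 * v 0 + g.1 0 1 * v 1 := by
  simp [ac, mulVec, dotProduct, Fin.sum_univ_two]
theorem ac_apply_one (g : SpecialLinearGroup (Fin 2) F) (v : Fin 2 → F) :
    ac g v 1 = g.1 1 0 * v 0 + g.1 1 1 * v 1 := by
  simp [ac, mulVec, dotProduct, Fin.sum_univ_two]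

@[simp] theorem ac_one (v : Fin 2 → F) : ac 1 v = v := by simp [ac]
theorem ac_mul (g h : SpecialLinearGroup (Fin 2) F) (v : Fin 2 → F) : ac (g * h) v = ac g (ac h v) := by
  rw [ac, ac, ac, mulVec_mulVec]; rfl
theorem ac_add (g : SpecialLinearGroup (Fin 2) F) (v w : Fin 2 → F) : ac g (v + w) = ac g v + ac g w :=
  mulVec_add _ _ _
theorem ac_smul (g : SpecialLinearGroup (Fin 2) F) (a : F) (v : Fin 2 → F) : ac g (a • v) = a • ac g v :=
  mulVec_smul _ _ _
theorem ac_neg (g : SpecialLinearGroup (Fin 2) F) (v : Fin 2 → F) : ac g (-v) = - ac g v :=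
  mulVec_neg _ _
@[simp] theorem ac_zero (g : SpecialLinearGroup (Fin 2) F) : ac g (0 : Fin 2 → F) = 0 := mulVec_zero _

theorem det_eq (g : SpecialLinearGroup (Fin 2) F) : g.1 0 0 * g.1 1 1 - g.1 0 1 * g.1 1 0 = 1 := by
  have := g.2
  rwa [det_fin_two] at this

theorem dd_ac (g : SpecialLinearGroup (Fin 2) F) (v w : Fin 2 → F) : dd (ac g v) (ac g w) = dd v w := by
  have h := det_eq g
  simp only [dd, ac_apply_zero, ac_apply_one]
  linear_combination (v 0 * w 1 - v 1 * w 0) * h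

@[simp] theorem ac_inv_ac (g : SpecialLinearGroup (Fin 2) F) (v : Fin 2 → F) : ac g⁻¹ (ac g v) = v := by
  rw [← ac_mul, inv_mul_cancel, ac_one]
@[simp] theorem ac_ac_inv (g : SpecialLinearGroup (Fin 2) F) (v : Fin 2 → F) : ac g (ac g⁻¹ v) = v := by
  rw [← ac_mul, mul_inv_cancel, ac_one]

theorem ac_eq_zero {g : SpecialLinearGroup (Fin 2) F} {v : Fin 2 → F} : ac g v = 0 ↔ v = 0 := by
  constructor
  · intro h
    rw [← ac_inv_ac g v, h, ac_zero]
  · rintro rfl; simp

theorem ac_ne_zero {g : SpecialLinearGroup (Fin 2) F} {v : Fin 2 → F} (h : v ≠ 0) : ac g v ≠ 0 := by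
  rwa [Ne, ac_eq_zero]

/-- The basis vectors. -/
def ve : Fin 2 → F := ![1, 0]
def vf : Fin 2 → F := ![0, 1]

@[simp] theorem ve_zero : (ve : Fin 2 → F) 0 = 1 := rfl
@[simp] theorem ve_one : (ve : Fin 2 → F) 1 = 0 := rfl
@[simp] theorem vf_zero : (vf : Fin 2 → F) 0 = 0 := rfl
@[simp] theorem vf_one : (vf : Fin 2 → F) 1 = 1 := rfl

@[simp] theorem dd_ve_vf : dd (ve : Fin 2 → F) vf = 1 := by simp [dd]
@[simp] theorem dd_vf_ve : dd (vf : Fin 2 → F) ve = -1 := by simp [dd]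

theorem ve_ne : (ve : Fin 2 → F) ≠ 0 := fun h => by simpa using congrFun h 0
theorem vf_ne : (vf : Fin 2 → F) ≠ 0 := fun h => by simpa using congrFun h 1

theorem ext2 {x y : Fin 2 → F} (h0 : x 0 = y 0) (h1 : x 1 = y 1) : x = y := by
  funext i
  fin_cases i
  · exact h0
  · exact h1

theorem sl_ext {g h : SpecialLinearGroup (Fin 2) F} (he : ac g ve = ac h ve) (hf : ac g vf = ac h vf) : g = h := by
  ext i j
  fin_cases j
  · have := congrFun he i
    fin_cases i
    · simpa [ac_apply_zero] using this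
    · simpa [ac_apply_one] using this
  · have := congrFun hf i
    fin_cases i
    · simpa [ac_apply_zero] using this
    · simpa [ac_apply_one] using this

theorem sl_ext' {g h : SpecialLinearGroup (Fin 2) F} (he : ∀ v, ac g v = ac h v) : g = h :=
  sl_ext (he _) (he _)

/-- The matrix with columns `v`, `w`. -/
def col (v w : Fin 2 → F) (h : dd v w = 1) : SpecialLinearGroup (Fin 2) F :=
  ⟨!![v 0, w 0; v 1, w 1], by rw [det_fin_two_of]; rw [← h]; simp only [dd]; ring⟩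

@[simp] theorem col_ve (v w : Fin 2 → F) (h : dd v w = 1) : ac (col v w h) ve = v := by
  apply ext2
  · rw [ac_apply_zero]; simp [col]
  · rw [ac_apply_one]; simp [col]
@[simp] theorem col_vf (v w : Fin 2 → F) (h : dd v w = 1) : ac (col v w h) vf = w := by
  apply ext2
  · rw [ac_apply_zero]; simp [col]
  · rw [ac_apply_one]; simp [col]

theorem exists_dd_ne {v : Fin 2 → F} (hv : v ≠ 0) : ∃ w, dd v w = 1 := by
  by_cases h0 : v 0 = 0
  · have h1 : v 1 ≠ 0 := fun h1 => hv (ext2 h0 h1)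
    refine ⟨![-(v 1)⁻¹, 0], ?_⟩
    simp only [dd, cons_val_zero, cons_val_one]
    field_simp
    ring
  · refine ⟨![0, (v 0)⁻¹], ?_⟩
    simp only [dd, cons_val_zero, cons_val_one]
    field_simp
    ring

theorem exists_col {v : Fin 2 → F} (hv : v ≠ 0) : ∃ g : SpecialLinearGroup (Fin 2) F, ac g ve = v := by
  obtain ⟨w, hw⟩ := exists_dd_ne hv
  exact ⟨col v w hw, col_ve _ _ _⟩

/-- A matrix with first column `v`. -/
noncomputable def gv (v : Fin 2 → F) : SpecialLinearGroup (Fin 2) F :=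
  open Classical in if hv : v ≠ 0 then (exists_col hv).choose else 1

theorem gv_ve {v : Fin 2 → F} (hv : v ≠ 0) : ac (gv v) ve = v := by
  rw [gv, dif_pos hv]
  exact (exists_col hv).choose_spec

theorem exists_col2 {v w : Fin 2 → F} {c : F} (hc : c ≠ 0) (h : dd v w = c) :
    ∃ g : SpecialLinearGroup (Fin 2) F, ac g ve = v ∧ ac g (c • vf) = w := by
  refine ⟨col v (c⁻¹ • w) (by rw [dd_smul_right, h, inv_mul_cancel₀ hc]), col_ve _ _ _, ?_⟩
  rw [ac_smul, col_vf, smul_smul, mul_inv_cancel₀ hc, one_smul]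

theorem eq_smul_of_dd {v w : Fin 2 → F} (hv : v ≠ 0) (h : dd v w = 0) : ∃ c : F, w = c • v := by
  by_cases h0 : v 0 = 0
  · have h1 : v 1 ≠ 0 := fun h1 => hv (ext2 h0 h1)
    have h2 : w 0 = 0 := by
      simp only [dd, h0, zero_mul, zero_sub, neg_eq_zero, mul_eq_zero] at h
      exact h.resolve_left h1
    refine ⟨w 1 / v 1, ext2 ?_ ?_⟩
    · rw [Pi.smul_apply, h0, h2, smul_zero]
    · rw [Pi.smul_apply, smul_eq_mul, div_mul_cancel₀ _ h1]
  · refine ⟨w 0 / v 0, ext2 ?_ ?_⟩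
    · rw [Pi.smul_apply, smul_eq_mul, div_mul_cancel₀ _ h0]
    · rw [Pi.smul_apply, smul_eq_mul]
      simp only [dd] at h
      field_simp
      linear_combination h

/-- The transvection `x ↦ x + s ⟨x, v⟩ v`. -/
def tv (v : Fin 2 → F) (s : F) : SpecialLinearGroup (Fin 2) F :=
  ⟨!![1 + s * v 0 * v 1, - s * v 0 * v 0; s * v 1 * v 1, 1 - s * v 0 * v 1], by
    rw [det_fin_two_of]; ring⟩

theorem ac_tv (v : Fin 2 → F) (s : F) (x : Fin 2 → F) : ac (tv v s) x = x + (s * dd x v) • v := by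
  apply ext2
  · rw [ac_apply_zero]; simp [tv, dd]; ring
  · rw [ac_apply_one]; simp [tv, dd]; ring

@[simp] theorem ac_tv_self (v : Fin 2 → F) (s : F) : ac (tv v s) v = v := by
  rw [ac_tv, dd_self, mul_zero, zero_smul, add_zero]

@[simp] theorem tv_zero_right (v : Fin 2 → F) : tv v 0 = 1 :=
  sl_ext' fun x => by rw [ac_tv]; simp
@[simp] theorem tv_zero_left (s : F) : tv (0 : Fin 2 → F) s = 1 :=
  sl_ext' fun x => by rw [ac_tv]; simp

theorem tv_add (v : Fin 2 → F) (s t : F) : tv v (s + t) = tv v s * tv v t := by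
  apply sl_ext'
  intro x
  rw [ac_mul, ac_tv, ac_tv, ac_tv, dd_add_left, dd_smul_left, dd_self, mul_zero, add_zero, add_assoc,
    ← add_smul, add_mul, add_comm (s * dd x v)]

theorem tv_neg (v : Fin 2 → F) (s : F) : tv v (-s) = (tv v s)⁻¹ := by
  rw [eq_inv_iff_mul_eq_one, ← tv_add, neg_add_cancel, tv_zero_right]

theorem tv_comm (v : Fin 2 → F) (s t : F) : Commute (tv v s) (tv v t) := by
  rw [Commute, SemiconjBy, ← tv_add, ← tv_add, add_comm]

theorem tv_smul (v : Fin 2 → F) (a s : F) : tv (a • v) s = tv v (a * a * s) := by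
  apply sl_ext'
  intro x
  rw [ac_tv, ac_tv, dd_smul_right, smul_smul]
  congr 2
  ring

theorem conj_tv (g : SpecialLinearGroup (Fin 2) F) (v : Fin 2 → F) (s : F) :
    g * tv v s * g⁻¹ = tv (ac g v) s := by
  apply sl_ext'
  intro x
  rw [ac_mul, ac_mul, ac_tv, ac_add, ac_smul, ac_ac_inv, ac_tv]
  congr 3
  rw [← dd_ac g (ac g⁻¹ x) v, ac_ac_inv]

theorem eq_tv {g : SpecialLinearGroup (Fin 2) F} (h : ac g ve = ve) : ∃ s, g = tv ve s := by
  refine ⟨- (ac g vf 0), sl_ext (by rw [h, ac_tv_self]) ?_⟩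
  have h1 := dd_ac g ve vf
  rw [h, dd_ve_vf] at h1
  have h2 : ac g vf 1 = 1 := by
    simpa [dd] using h1
  rw [ac_tv, dd_vf_ve]
  apply ext2
  · simp
  · simp [h2]

/-- The diagonal matrix. -/
def hd (a : Fˣ) : SpecialLinearGroup (Fin 2) F :=
  ⟨!![(a : F), 0; 0, ((a⁻¹ : Fˣ) : F)], by rw [det_fin_two_of]; simp⟩

@[simp] theorem ac_hd_ve (a : Fˣ) : ac (hd a) (ve : Fin 2 → F) = (a : F) • ve := by
  apply ext2
  · rw [ac_apply_zero]; simp [hd]
  · rw [ac_apply_one]; simp [hd]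
@[simp] theorem ac_hd_vf (a : Fˣ) : ac (hd a) (vf : Fin 2 → F) = ((a⁻¹ : Fˣ) : F) • vf := by
  apply ext2
  · rw [ac_apply_zero]; simp [hd]
  · rw [ac_apply_one]; simp [hd]

theorem hd_mul (a b : Fˣ) : (hd (a * b) : SpecialLinearGroup (Fin 2) F) = hd a * hd b := by
  apply sl_ext
  · rw [ac_mul, ac_hd_ve, ac_hd_ve, ac_smul, ac_hd_ve, smul_smul, Units.val_mul, mul_comm]
  · rw [ac_mul, ac_hd_vf, ac_hd_vf, ac_smul, ac_hd_vf, smul_smul, mul_inv, Units.val_mul, mul_comm]

@[simp] theorem hd_one : (hd 1 : SpecialLinearGroup (Fin 2) F) = 1 := by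
  apply sl_ext
  · simp
  · simp

/-- `hd` as a homomorphism. -/
def hdHom : Fˣ →* SpecialLinearGroup (Fin 2) F where
  toFun := hd
  map_one' := hd_one
  map_mul' := hd_mul

@[simp] theorem hdHom_apply (a : Fˣ) : (hdHom a : SpecialLinearGroup (Fin 2) F) = hd a := rfl

theorem hd_inv (a : Fˣ) : (hd a⁻¹ : SpecialLinearGroup (Fin 2) F) = (hd a)⁻¹ := map_inv hdHom a

/-- The Weyl element. -/
def wd : SpecialLinearGroup (Fin 2) F := ⟨!![0, -1; 1, 0], by rw [det_fin_two_of]; ring⟩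

@[simp] theorem ac_wd_ve : ac wd (ve : Fin 2 → F) = vf := by
  apply ext2
  · rw [ac_apply_zero]; simp [wd]
  · rw [ac_apply_one]; simp [wd]
@[simp] theorem ac_wd_vf : ac wd (vf : Fin 2 → F) = -ve := by
  apply ext2
  · rw [ac_apply_zero]; simp [wd]
  · rw [ac_apply_one]; simp [wd]

theorem ac_neg_one (v : Fin 2 → F) : ac (-1 : SpecialLinearGroup (Fin 2) F) v = -v := by
  apply ext2
  · rw [ac_apply_zero]; simp
  · rw [ac_apply_one]; simp

theorem wd_mul_wd : (wd * wd : SpecialLinearGroup (Fin 2) F) = -1 := by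
  apply sl_ext
  · rw [ac_mul, ac_wd_ve, ac_wd_vf, ac_neg_one]
  · rw [ac_mul, ac_wd_vf, ac_neg, ac_wd_ve, ac_neg_one]

theorem hd_neg_one : (hd (-1) : SpecialLinearGroup (Fin 2) F) = -1 := by
  apply sl_ext
  · rw [ac_hd_ve, ac_neg_one]; simp
  · rw [ac_hd_vf, ac_neg_one]; simp

/-- Any vector in terms of the basis. -/
theorem eq_ve_vf (v : Fin 2 → F) : v = v 0 • ve + v 1 • vf := by
  apply ext2 <;> simp

end Cfsg.Agent.H111
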