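import Cfsg.Agent.H111.Sl2

/-!
# Abstract short root elements of type `C` (helper111, cluster S2284-S2297)

A group `Q` with homomorphisms `S : Perm (Fin (n+2)) →* Q`, `l : SL(2,F) →* Q` and an element `y` (the short root
element `E 0 1 ve ve`).  Under the hypotheses `Sys1` the elements `L i g` and `E i j v w` are well defined and
are permuted as in the symplectic group.
-/

set_option autoImplicit false

namespace Cfsg.Agent.H111

open Equiv
open Matrix (SpecialLinearGroup)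

/-- The data. -/
structure Pre (n : ℕ) (F : Type*) [Field F] (Q : Type*) [Group Q] where
  S : Perm (Fin (n + 2)) →* Q
  l : SpecialLinearGroup (Fin 2) F →* Q
  y : Q

theorem exists_perm2 {n : ℕ} {i j : Fin (n + 2)} (h : i ≠ j) : ∃ π : Perm (Fin (n + 2)), π 0 = i ∧ π 1 = j := by
  have h01 : (0 : Fin (n + 2)) ≠ 1 := by simp
  have hj' : swap 0 i j ≠ 0 := by
    intro e
    have : j = swap 0 i (swap 0 i j) := by rw [swap_apply_self]
    rw [e, swap_apply_left] at this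
    exact h this.symm
  refine ⟨swap 0 i * swap 1 (swap 0 i j), ?_, ?_⟩
  · rw [Perm.mul_apply, swap_apply_of_ne_of_ne h01 hj'.symm, swap_apply_left]
  · rw [Perm.mul_apply, swap_apply_left, swap_apply_self]

theorem conj_mul_commute {Q : Type*} [Group Q] {z c y : Q} (h : Commute c y) :
    (z * c) * y * (z * c)⁻¹ = z * y * z⁻¹ := by
  rw [mul_inv_rev, mul_assoc z c y, h.eq]
  group

namespace Pre

variable {n : ℕ} {F : Type*} [Field F] {Q : Type*} [Group Q] {Q' : Type*} [Group Q']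

/-- Transport by a homomorphism. -/
def map (A : Pre n F Q) (f : Q →* Q') : Pre n F Q' := ⟨f.comp A.S, f.comp A.l, f A.y⟩

/-- `SL(2,F)` in the plane `i`. -/
def L (A : Pre n F Q) (i : Fin (n + 2)) : SpecialLinearGroup (Fin 2) F →* Q :=
  (MulAut.conj (A.S (swap 0 i))).toMonoidHom.comp A.l

/-- Conjugates of `y`. -/
def z (A : Pre n F Q) (π : Perm (Fin (n + 2))) (g h : SpecialLinearGroup (Fin 2) F) : Q :=
  A.S π * (A.L 0 g * A.L 1 h)

/-- Conjugates of `y`. -/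
def Y (A : Pre n F Q) (π : Perm (Fin (n + 2))) (g h : SpecialLinearGroup (Fin 2) F) : Q :=
  A.z π g h * A.y * (A.z π g h)⁻¹

@[simp] theorem map_S (A : Pre n F Q) (f : Q →* Q') (π : Perm (Fin (n + 2))) : (A.map f).S π = f (A.S π) := rfl
@[simp] theorem map_l (A : Pre n F Q) (f : Q →* Q') (g : SpecialLinearGroup (Fin 2) F) :
    (A.map f).l g = f (A.l g) := rfl
@[simp] theorem map_y (A : Pre n F Q) (f : Q →* Q') : (A.map f).y = f A.y := rfl

theorem L_apply (A : Pre n F Q) (i : Fin (n + 2)) (g : SpecialLinearGroup (Fin 2) F) :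
    A.L i g = A.S (swap 0 i) * A.l g * (A.S (swap 0 i))⁻¹ := rfl

theorem L_zero (A : Pre n F Q) (g : SpecialLinearGroup (Fin 2) F) : A.L 0 g = A.l g := by
  rw [L_apply, swap_self]
  simp [← Perm.one_def]

@[simp] theorem map_L (A : Pre n F Q) (f : Q →* Q') (i : Fin (n + 2)) (g : SpecialLinearGroup (Fin 2) F) :
    (A.map f).L i g = f (A.L i g) := by
  rw [L_apply, L_apply, map_S, map_l, map_mul, map_mul, map_inv]

@[simp] theorem map_z (A : Pre n F Q) (f : Q →* Q') (π : Perm (Fin (n + 2)))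
    (g h : SpecialLinearGroup (Fin 2) F) : (A.map f).z π g h = f (A.z π g h) := by
  simp [z]

@[simp] theorem map_Y (A : Pre n F Q) (f : Q →* Q') (π : Perm (Fin (n + 2)))
    (g h : SpecialLinearGroup (Fin 2) F) : (A.map f).Y π g h = f (A.Y π g h) := by
  simp [Y]

/-- First hypotheses. -/
structure Sys1 (A : Pre n F Q) : Prop where
  comS : ∀ π : Perm (Fin (n + 2)), π 0 = 0 → ∀ g, Commute (A.S π) (A.l g)
  comL : ∀ g h, Commute (A.L 0 g) (A.L 1 h)
  yS : ∀ π : Perm (Fin (n + 2)), π 0 = 0 → π 1 = 1 → Commute (A.S π) A.y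
  yS01 : Commute (A.S (swap 0 1)) A.y
  yL : ∀ j, j ≠ 0 → j ≠ 1 → ∀ g, Commute (A.L j g) A.y
  yh : ∀ a : Fˣ, Commute (A.L 0 (hd a) * (A.L 1 (hd a))⁻¹) A.y
  yt : ∀ s : F, Commute (A.L 0 (tv ve s)) A.y

namespace Sys1

variable {A : Pre n F Q} (H : A.Sys1)
include H

theorem S_L (π : Perm (Fin (n + 2))) (i : Fin (n + 2)) (g : SpecialLinearGroup (Fin 2) F) :
    A.S π * A.L i g * (A.S π)⁻¹ = A.L (π i) g := by
  have h1 : (swap 0 (π i) * (π * swap 0 i) : Perm (Fin (n + 2))) 0 = 0 := by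
    rw [Perm.mul_apply, Perm.mul_apply, swap_apply_left, swap_apply_right]
  have h2 := H.comS _ h1 g
  have h3 : A.S π * A.S (swap 0 i) = A.S (swap 0 (π i)) * A.S (swap 0 (π i) * (π * swap 0 i)) := by
    rw [← map_mul, ← map_mul, ← mul_assoc (swap 0 (π i)), swap_mul_self, one_mul]
  rw [L_apply, L_apply]
  have e : A.S π * (A.S (swap 0 i) * A.l g * (A.S (swap 0 i))⁻¹) * (A.S π)⁻¹ =
      (A.S π * A.S (swap 0 i)) * A.l g * (A.S π * A.S (swap 0 i))⁻¹ := by group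
  rw [e, h3]
  exact conj_mul_commute h2

theorem S_L' (π : Perm (Fin (n + 2))) (i : Fin (n + 2)) (g : SpecialLinearGroup (Fin 2) F) :
    A.S π * A.L i g = A.L (π i) g * A.S π := by
  rw [← H.S_L]; group

theorem L_comm {i j : Fin (n + 2)} (hij : i ≠ j) (g h : SpecialLinearGroup (Fin 2) F) :
    Commute (A.L i g) (A.L j h) := by
  obtain ⟨π, rfl, rfl⟩ := exists_perm2 hij
  rw [← H.S_L, ← H.S_L π 1]
  exact Commute.conj_iff _ |>.2 (H.comL g h)

theorem yt1 (s : F) : Commute (A.L 1 (tv ve s)) A.y := by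
  have h := (Commute.conj_iff (A.S (swap 0 1))).2 (H.yt s)
  rw [H.S_L, swap_apply_left] at h
  have h1 : A.S (swap 0 1) * A.y * (A.S (swap 0 1))⁻¹ = A.y := by
    rw [H.yS01.eq, mul_inv_cancel_right]
  rwa [h1] at h

theorem S_z (σ π : Perm (Fin (n + 2))) (g h : SpecialLinearGroup (Fin 2) F) :
    A.S σ * A.z π g h = A.z (σ * π) g h := by
  rw [z, z, map_mul, mul_assoc]

theorem S_Y (σ π : Perm (Fin (n + 2))) (g h : SpecialLinearGroup (Fin 2) F) :
    A.S σ * A.Y π g h * (A.S σ)⁻¹ = A.Y (σ * π) g h := by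
  rw [Y, Y, ← H.S_z]; group

theorem L0_z (π : Perm (Fin (n + 2))) (k g h : SpecialLinearGroup (Fin 2) F) :
    A.L (π 0) k * A.z π g h = A.z π (k * g) h := by
  rw [z, z, ← mul_assoc, ← H.S_L', map_mul]; group

theorem L1_z (π : Perm (Fin (n + 2))) (k g h : SpecialLinearGroup (Fin 2) F) :
    A.L (π 1) k * A.z π g h = A.z π g (k * h) := by
  rw [z, z, ← mul_assoc, ← H.S_L', map_mul, mul_assoc, ← mul_assoc (A.L 1 k), (H.comL g k).symm.eq]
  group

theorem Lk_z (π : Perm (Fin (n + 2))) (j : Fin (n + 2)) (h0 : j ≠ 0) (h1 : j ≠ 1)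
    (k g h : SpecialLinearGroup (Fin 2) F) :
    A.L (π j) k * A.z π g h = A.z π g h * A.L j k := by
  rw [z, ← mul_assoc, ← H.S_L', mul_assoc, ← mul_assoc (A.L j k), (H.L_comm h0 k g).eq,
    mul_assoc (A.L 0 g), (H.L_comm h1 k h).eq]
  group

theorem L0_Y (π : Perm (Fin (n + 2))) (k g h : SpecialLinearGroup (Fin 2) F) :
    A.L (π 0) k * A.Y π g h * (A.L (π 0) k)⁻¹ = A.Y π (k * g) h := by
  rw [Y, Y, ← H.L0_z]; group

theorem L1_Y (π : Perm (Fin (n + 2))) (k g h : SpecialLinearGroup (Fin 2) F) :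
    A.L (π 1) k * A.Y π g h * (A.L (π 1) k)⁻¹ = A.Y π g (k * h) := by
  rw [Y, Y, ← H.L1_z]; group

theorem Lk_Y (π : Perm (Fin (n + 2))) (j : Fin (n + 2)) (h0 : j ≠ 0) (h1 : j ≠ 1)
    (k g h : SpecialLinearGroup (Fin 2) F) : Commute (A.L (π j) k) (A.Y π g h) := by
  have e : A.L (π j) k = A.z π g h * A.L j k * (A.z π g h)⁻¹ := by
    rw [← H.Lk_z π j h0 h1]; group
  rw [e, Y]
  exact (Commute.conj_iff _).2 (H.yL j h0 h1 k)

/-- `Y` depends only on the images of `ve` -/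
theorem Y_congr_vec (π : Perm (Fin (n + 2))) {g g' h h' : SpecialLinearGroup (Fin 2) F}
    (hg : ac g ve = ac g' ve) (hh : ac h ve = ac h' ve) : A.Y π g h = A.Y π g' h' := by
  obtain ⟨s, hs⟩ : ∃ s, g⁻¹ * g' = tv ve s := eq_tv (by rw [ac_mul, ← hg, ac_inv_ac])
  obtain ⟨t, ht⟩ : ∃ s, h⁻¹ * h' = tv ve s := eq_tv (by rw [ac_mul, ← hh, ac_inv_ac])
  have e1 : g' = g * tv ve s := by rw [← hs]; group
  have e2 : h' = h * tv ve t := by rw [← ht]; group
  have e3 : A.z π g' h' = A.z π g h * (A.L 0 (tv ve s) * A.L 1 (tv ve t)) := by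
    rw [e1, e2, z, z, map_mul, map_mul]
    have := (H.comL (tv ve s) h).eq
    calc A.S π * (A.L 0 g * A.L 0 (tv ve s) * (A.L 1 h * A.L 1 (tv ve t)))
        = A.S π * (A.L 0 g * (A.L 0 (tv ve s) * A.L 1 h) * A.L 1 (tv ve t)) := by group
      _ = A.S π * (A.L 0 g * A.L 1 h) * (A.L 0 (tv ve s) * A.L 1 (tv ve t)) := by rw [this]; group
  rw [Y, Y, e3]
  exact (conj_mul_commute ((H.yt s).mul_left (H.yt1 t))).symm

/-- `Y` depends only on `π 0`, `π 1` -/
theorem Y_congr_perm {π π' : Perm (Fin (n + 2))} (h0 : π 0 = π' 0) (h1 : π 1 = π' 1)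
    (g h : SpecialLinearGroup (Fin 2) F) : A.Y π g h = A.Y π' g h := by
  set ρ := π⁻¹ * π' with hρ
  have hρ0 : ρ 0 = 0 := by rw [hρ, Perm.mul_apply, ← h0]; simp
  have hρ1 : ρ 1 = 1 := by rw [hρ, Perm.mul_apply, ← h1]; simp
  have e : π' = π * ρ := by rw [hρ]; group
  have e3 : A.z π' g h = A.z π g h * A.S ρ := by
    have h2 := H.S_L' ρ 0 g
    have h3 := H.S_L' ρ 1 h
    rw [hρ0] at h2
    rw [hρ1] at h3
    rw [e, z, z, map_mul, mul_assoc, ← mul_assoc (A.S ρ), h2, mul_assoc (A.L 0 g), h3]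
    group
  rw [Y, Y, e3]
  exact (conj_mul_commute (H.yS ρ hρ0 hρ1)).symm

theorem Y_swap (π : Perm (Fin (n + 2))) (g h : SpecialLinearGroup (Fin 2) F) :
    A.Y (π * swap 0 1) g h = A.Y π h g := by
  have e3 : A.z (π * swap 0 1) g h = A.z π h g * A.S (swap 0 1) := by
    have h2 := H.S_L' (swap 0 1) 0 g
    have h3 := H.S_L' (swap 0 1) 1 h
    rw [swap_apply_left] at h2
    rw [swap_apply_right] at h3
    rw [z, z, map_mul, mul_assoc, ← mul_assoc (A.S (swap 0 1)), h2, mul_assoc (A.L 1 g), h3,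
      ← mul_assoc (A.L 1 g), ← (H.comL h g).eq]
    group
  rw [Y, Y, e3]
  exact conj_mul_commute H.yS01

theorem Y_hd (π : Perm (Fin (n + 2))) (g h : SpecialLinearGroup (Fin 2) F) (a : Fˣ) :
    A.Y π (g * hd a) h = A.Y π g (h * hd a) := by
  have e3 : A.z π (g * hd a) h = A.z π g (h * hd a) * (A.L 0 (hd a) * (A.L 1 (hd a))⁻¹) := by
    have h2 := (H.comL (hd a) (h * hd a)).eq
    rw [z, z, map_mul]
    calc A.S π * (A.L 0 g * A.L 0 (hd a) * A.L 1 h)
        = A.S π * (A.L 0 g * (A.L 0 (hd a) * A.L 1 (h * hd a)) * (A.L 1 (hd a))⁻¹) := by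
          rw [map_mul]; group
      _ = _ := by rw [h2]; group
  rw [Y, Y, e3]
  exact conj_mul_commute (H.yh a)

omit H in
open Classical in
/-- The short root elements. -/
noncomputable def _root_.Cfsg.Agent.H111.Pre.E (A : Pre n F Q) (i j : Fin (n + 2)) (v w : Fin 2 → F) : Q :=
  if h : i ≠ j then (if v ≠ 0 ∧ w ≠ 0 then A.Y (exists_perm2 h).choose (gv v) (gv w) else 1) else 1

omit H in
@[simp] theorem E_zero_left (i j : Fin (n + 2)) (w : Fin 2 → F) : A.E i j 0 w = 1 := by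
  rw [E]
  split_ifs with h1 h2
  · exact absurd rfl h2.1
  · rfl
  · rfl

omit H in
@[simp] theorem E_zero_right (i j : Fin (n + 2)) (w : Fin 2 → F) : A.E i j w 0 = 1 := by
  rw [E]
  split_ifs with h1 h2
  · exact absurd rfl h2.2
  · rfl
  · rfl

/-- the main formula -/
theorem E_eq (π : Perm (Fin (n + 2))) (g h : SpecialLinearGroup (Fin 2) F) :
    A.E (π 0) (π 1) (ac g ve) (ac h ve) = A.Y π g h := by
  have hne : π 0 ≠ π 1 := by
    rw [Ne, π.injective.eq_iff]; simp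
  have h1 := ac_ne_zero (g := g) ve_ne
  have h2 := ac_ne_zero (g := h) ve_ne
  rw [E, dif_pos hne, if_pos ⟨h1, h2⟩]
  obtain ⟨h3, h4⟩ := (exists_perm2 hne).choose_spec
  rw [H.Y_congr_perm h3 h4]
  exact H.Y_congr_vec π (gv_ve h1) (gv_ve h2)

theorem E_cases (P : Fin (n + 2) → Fin (n + 2) → (Fin 2 → F) → (Fin 2 → F) → Q → Prop)
    (h0l : ∀ i j w, i ≠ j → P i j 0 w 1) (h0r : ∀ i j v, i ≠ j → P i j v 0 1)
    (hY : ∀ π g h, P (π 0) (π 1) (ac g ve) (ac h ve) (A.Y π g h))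
    {i j : Fin (n + 2)} (hij : i ≠ j) (v w : Fin 2 → F) : P i j v w (A.E i j v w) := by
  by_cases hv : v = 0
  · subst hv; rw [E_zero_left]; exact h0l i j w hij
  by_cases hw : w = 0
  · subst hw; rw [E_zero_right]; exact h0r i j v hij
  obtain ⟨π, rfl, rfl⟩ := exists_perm2 hij
  obtain ⟨g, rfl⟩ := exists_col hv
  obtain ⟨h, rfl⟩ := exists_col hw
  rw [H.E_eq]
  exact hY π g h

theorem E_S (σ : Perm (Fin (n + 2))) {i j : Fin (n + 2)} (hij : i ≠ j) (v w : Fin 2 → F) :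
    A.S σ * A.E i j v w * (A.S σ)⁻¹ = A.E (σ i) (σ j) v w := by
  refine H.E_cases (fun i j v w x => A.S σ * x * (A.S σ)⁻¹ = A.E (σ i) (σ j) v w) ?_ ?_ ?_ hij v w
  · intro i j w _; simp
  · intro i j w _; simp
  · intro π g h
    rw [H.S_Y]
    exact (H.E_eq (σ * π) g h).symm

theorem E_L_left {i j : Fin (n + 2)} (hij : i ≠ j) (k : SpecialLinearGroup (Fin 2) F) (v w : Fin 2 → F) :
    A.L i k * A.E i j v w * (A.L i k)⁻¹ = A.E i j (ac k v) w := by
  refine H.E_cases (fun i j v w x => A.L i k * x * (A.L i k)⁻¹ = A.E i j (ac k v) w) ?_ ?_ ?_ hij v w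
  · intro i j w _; simp
  · intro i j w _; simp
  · intro π g h
    rw [H.L0_Y, ← ac_mul, H.E_eq]

theorem E_L_right {i j : Fin (n + 2)} (hij : i ≠ j) (k : SpecialLinearGroup (Fin 2) F) (v w : Fin 2 → F) :
    A.L j k * A.E i j v w * (A.L j k)⁻¹ = A.E i j v (ac k w) := by
  refine H.E_cases (fun i j v w x => A.L j k * x * (A.L j k)⁻¹ = A.E i j v (ac k w)) ?_ ?_ ?_ hij v w
  · intro i j w _; simp
  · intro i j w _; simp
  · intro π g h
    rw [H.L1_Y, ← ac_mul, H.E_eq]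

theorem E_L_other {i j k : Fin (n + 2)} (hij : i ≠ j) (hki : k ≠ i) (hkj : k ≠ j)
    (g : SpecialLinearGroup (Fin 2) F) (v w : Fin 2 → F) : Commute (A.L k g) (A.E i j v w) := by
  refine H.E_cases (fun i j _ _ x => k ≠ i → k ≠ j → Commute (A.L k g) x) ?_ ?_ ?_ hij v w hki hkj
  · intro i j w _ _ _; exact Commute.one_right _
  · intro i j w _ _ _; exact Commute.one_right _
  · intro π g' h h0 h1
    have e : k = π (π⁻¹ k) := by simp
    rw [e]
    apply H.Lk_Y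
    · intro h2; apply h0; rw [e, h2]
    · intro h2; apply h1; rw [e, h2]

theorem E_symm {i j : Fin (n + 2)} (hij : i ≠ j) (v w : Fin 2 → F) : A.E i j v w = A.E j i w v := by
  refine H.E_cases (fun i j v w x => x = A.E j i w v) ?_ ?_ ?_ hij v w
  · intro i j w _; simp
  · intro i j w _; simp
  · intro π g h
    rw [← H.Y_swap, ← H.E_eq]
    simp

theorem E_smul {i j : Fin (n + 2)} (hij : i ≠ j) (a : F) (v w : Fin 2 → F) :
    A.E i j (a • v) w = A.E i j v (a • w) := by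
  by_cases ha : a = 0
  · subst ha; simp
  refine H.E_cases (fun i j v w _ => A.E i j (a • v) w = A.E i j v (a • w)) ?_ ?_ ?_ hij v w
  · intro i j w _; simp
  · intro i j w _; simp
  · intro π g h
    have e1 : a • ac g ve = ac (g * hd (Units.mk0 a ha)) (ve : Fin 2 → F) := by
      rw [ac_mul, ac_hd_ve, ac_smul, Units.val_mk0]
    have e2 : a • ac h ve = ac (h * hd (Units.mk0 a ha)) (ve : Fin 2 → F) := by
      rw [ac_mul, ac_hd_ve, ac_smul, Units.val_mk0]
    rw [e1, e2, H.E_eq, H.E_eq, H.Y_hd]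

theorem y_eq : A.y = A.E 0 1 ve ve := by
  have h := H.E_eq 1 1 1
  simp only [Perm.one_apply, ac_one] at h
  rw [h, Y, z]
  simp

theorem Y_one (π : Perm (Fin (n + 2))) : A.Y π 1 1 = A.S π * A.y * (A.S π)⁻¹ := by
  rw [Y, z]; simp

end Sys1

end Pre

end Cfsg.Agent.H111
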