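import Cfsg.Agent.H111.SpRoot

/-!
# The root datum of type `C` in `Q`: axioms (helper111, cluster S2284-S2297)
-/

set_option autoImplicit false

namespace Cfsg.Agent.H111

open Equiv
open Matrix (SpecialLinearGroup)
open Cfsg.Agent.ChevalleyStructure.SteinbergBruhat

section Sl2

variable {F : Type*} [Field F]

theorem exists_hd_bs (u : Fˣ) (s : Bool) : ∃ c : F, ac (hd u) (bs s) = c • bs s := by
  cases s
  · exact ⟨_, ac_hd_vf u⟩
  · exact ⟨_, ac_hd_ve u⟩

theorem exists_wd_bs (s : Bool) : ∃ c : F, ac wd (bs s : Fin 2 → F) = c • bs (!s) := by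
  cases s
  · exact ⟨-1, by rw [bs_false, ac_wd_vf]; simp⟩
  · exact ⟨1, by rw [bs_true, ac_wd_ve]; simp⟩

theorem wd_eq : (wd : SpecialLinearGroup (Fin 2) F) = tv ve 1 * tv vf 1 * tv ve 1 := by
  apply sl_ext
  · simp only [ac_wd_ve, ac_mul, ac_tv]
    apply ext2 <;> simp [dd]
  · simp only [ac_wd_vf, ac_mul, ac_tv]
    apply ext2 <;> simp [dd]

theorem tv_vf_eq (u : Fˣ) : (tv vf (u : F)) = tv ve (-((u⁻¹ : Fˣ) : F)) * (wd * hd u) * tv ve (-((u⁻¹ : Fˣ) : F)) := by
  have h : tv ve ((u⁻¹ : Fˣ) : F) * tv vf (u : F) * tv ve ((u⁻¹ : Fˣ) : F) = wd * hd u := by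
    apply sl_ext
    · simp only [ac_mul, ac_tv, ac_hd_ve, ac_smul, ac_wd_ve]
      apply ext2 <;> simp [dd]
    · simp only [ac_mul, ac_tv, ac_hd_vf, ac_smul, ac_wd_vf]
      apply ext2 <;> simp [dd]
  rw [← h, tv_neg]
  group

theorem exists_eq_tv_mul (g : SpecialLinearGroup (Fin 2) F) :
    g ∈ Subgroup.closure ({x | ∃ s, x = tv ve s} ∪ {x | ∃ s, x = tv vf s} : Set (SpecialLinearGroup (Fin 2) F)) := by
  set K := Subgroup.closure ({x | ∃ s, x = tv ve s} ∪ {x | ∃ s, x = tv vf s} : Set (SpecialLinearGroup (Fin 2) F))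
  have hE : ∀ s, tv ve s ∈ K := fun s => Subgroup.subset_closure (Or.inl ⟨s, rfl⟩)
  have hF : ∀ s, tv vf s ∈ K := fun s => Subgroup.subset_closure (Or.inr ⟨s, rfl⟩)
  have main : ∀ g : SpecialLinearGroup (Fin 2) F, ac g ve 1 ≠ 0 → g ∈ K := by
    intro g hg
    set a := ac g ve 0 with ha
    set c := ac g ve 1 with hc
    have h1 : ac (tv vf (-c) * tv ve ((a - 1) / c) * g) ve = ve := by
      rw [ac_mul, ac_mul, eq_ve_vf (ac g ve), ← ha, ← hc]
      simp only [ac_tv]
      apply ext2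
      · simp [dd]; field_simp; ring
      · simp [dd]; field_simp; ring
    obtain ⟨s, hs⟩ := eq_tv h1
    have e : g = (tv ve ((a - 1) / c))⁻¹ * (tv vf (-c))⁻¹ * tv ve s := by rw [← hs]; group
    rw [e]
    exact K.mul_mem (K.mul_mem (K.inv_mem (hE _)) (K.inv_mem (hF _))) (hE _)
  by_cases h : ac g ve 1 = 0
  · have h0 : ac g ve 0 ≠ 0 := fun h0 => ac_ne_zero (g := g) ve_ne (ext2 h0 h)
    have h2 := main (tv vf 1 * g) (by
      rw [ac_mul, eq_ve_vf (ac g ve), h, zero_smul, add_zero, ac_tv, dd_smul_left, dd_ve_vf]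
      simpa using h0)
    have e : g = (tv vf 1)⁻¹ * (tv vf 1 * g) := by group
    rw [e]
    exact K.mul_mem (K.inv_mem (hF _)) h2
  · exact main g h

end Sl2

namespace Pre

variable {n : ℕ} {F : Type*} [Field F] {Q : Type*} [Group Q]

/-- Root elements. -/
noncomputable def Xel (A : Pre n F Q) (a b : Sg n) (t : F) : Q :=
  if a = b then A.L a.1 (tv (bs a.2) t) else if a.1 = b.1 then 1 else A.E a.1 b.1 (bs a.2) (t • bs b.2)

theorem Xel_self (A : Pre n F Q) (a : Sg n) (t : F) : A.Xel a a t = A.L a.1 (tv (bs a.2) t) := if_pos rfl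

theorem Xel_ne (A : Pre n F Q) {a b : Sg n} (h : a.1 ≠ b.1) (t : F) :
    A.Xel a b t = A.E a.1 b.1 (bs a.2) (t • bs b.2) := by
  rw [Xel, if_neg (fun e => h (by rw [e])), if_neg h]

theorem Xel_opp (A : Pre n F Q) {a b : Sg n} (h : a.1 = b.1) (h' : a ≠ b) (t : F) : A.Xel a b t = 1 := by
  rw [Xel, if_neg h', if_pos h]

namespace Sys2

variable {A : Pre n F Q} {ζ : F} (H : A.Sys2 ζ)
include H

theorem Xel_symm (a b : Sg n) (t : F) : A.Xel a b t = A.Xel b a t := by
  by_cases h : a = b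
  · rw [h]
  by_cases h1 : a.1 = b.1
  · rw [Xel_opp A h1 h, Xel_opp A h1.symm (Ne.symm h)]
  · rw [Xel_ne A h1, Xel_ne A (Ne.symm h1), H.E_symm h1, H.E_smul (Ne.symm h1)]

theorem Xel_add (a b : Sg n) (s t : F) : A.Xel a b s * A.Xel a b t = A.Xel a b (s + t) := by
  by_cases h : a = b
  · subst h
    rw [Xel_self, Xel_self, Xel_self, tv_add, map_mul]
  by_cases h1 : a.1 = b.1
  · rw [Xel_opp A h1 h, Xel_opp A h1 h, Xel_opp A h1 h, one_mul]
  · rw [Xel_ne A h1, Xel_ne A h1, Xel_ne A h1, H.add_line h1]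

theorem Xel_zero (a b : Sg n) : A.Xel a b 0 = 1 := by
  have := H.Xel_add a b 0 0
  rw [add_zero] at this
  exact mul_eq_left.1 this

theorem Xel_inv (a b : Sg n) (t : F) : (A.Xel a b t)⁻¹ = A.Xel a b (-t) := by
  rw [inv_eq_iff_mul_eq_one, H.Xel_add, add_neg_cancel, H.Xel_zero]

/-- root subgroups -/
def XR (a b : Sg n) : Subgroup Q where
  carrier := {x | ∃ t, x = A.Xel a b t}
  mul_mem' := by
    rintro x y ⟨s, rfl⟩ ⟨t, rfl⟩
    exact ⟨s + t, H.Xel_add a b s t⟩
  one_mem' := ⟨0, (H.Xel_zero a b).symm⟩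
  inv_mem' := by
    rintro x ⟨s, rfl⟩
    exact ⟨-s, H.Xel_inv a b s⟩

theorem mem_XR {a b : Sg n} {x : Q} : x ∈ H.XR a b ↔ ∃ t, x = A.Xel a b t := Iff.rfl

theorem XR_symm (a b : Sg n) : H.XR a b = H.XR b a := by
  ext x
  rw [mem_XR, mem_XR]
  constructor
  · rintro ⟨t, rfl⟩; exact ⟨t, H.Xel_symm a b t⟩
  · rintro ⟨t, rfl⟩; exact ⟨t, H.Xel_symm b a t⟩

theorem E_mem {a b : Sg n} (h : a.1 ≠ b.1) (c d : F) : A.E a.1 b.1 (c • bs a.2) (d • bs b.2) ∈ H.XR a b := by
  refine ⟨c * d, ?_⟩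
  rw [Xel_ne A h, H.E_smul h, smul_smul]

theorem E_mem' {a b : Sg n} (h : a.1 ≠ b.1) {v w : Fin 2 → F} (hv : ∃ c : F, v = c • bs a.2)
    (hw : ∃ c : F, w = c • bs b.2) : A.E a.1 b.1 v w ∈ H.XR a b := by
  obtain ⟨c, rfl⟩ := hv
  obtain ⟨d, rfl⟩ := hw
  exact H.E_mem h c d

theorem L_mem {a : Sg n} {v : Fin 2 → F} (hv : ∃ c : F, v = c • bs a.2) (s : F) : A.L a.1 (tv v s) ∈ H.XR a a := by
  obtain ⟨c, rfl⟩ := hv
  exact ⟨c * c * s, by rw [Xel_self, tv_smul]⟩

theorem conj_hd_mem (k : Fin (n + 2)) (u : Fˣ) (a b : Sg n) (t : F) :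
    MulAut.conj (A.L k (hd u)) (A.Xel a b t) ∈ H.XR a b := by
  have hex : ∀ (i : Fin (n + 2)) (s : Bool), ∃ c : F, (if k = i then ac (hd u) (bs s) else bs s) = c • bs s := by
    intro i s
    split_ifs
    · exact exists_hd_bs u s
    · exact ⟨1, by rw [one_smul]⟩
  by_cases h : a = b
  · subst h
    rw [Xel_self, H.conj_L_L]
    split_ifs
    · rw [conj_tv]
      exact H.L_mem (exists_hd_bs u a.2) t
    · exact H.L_mem ⟨1, by rw [one_smul]⟩ t
  by_cases h1 : a.1 = b.1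
  · rw [Xel_opp A h1 h, map_one]
    exact (H.XR a b).one_mem
  · rw [Xel_ne A h1, ← one_smul F (bs a.2), H.E_smul h1, one_smul, ← H.E_smul h1, H.conj_L_E h1]
    have e : (if k = a.1 then ac (hd u) (t • bs a.2) else t • bs a.2 : Fin 2 → F) =
        t • (if k = a.1 then ac (hd u) (bs a.2) else bs a.2) := by
      split_ifs
      · rw [ac_smul]
      · rfl
    rw [e]
    obtain ⟨c, hc⟩ := hex a.1 a.2
    rw [hc]
    exact H.E_mem' h1 ⟨t * c, by rw [smul_smul]⟩ (hex b.1 b.2)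

theorem conj_wd_mem (k : Fin (n + 2)) (a b : Sg n) (t : F) :
    MulAut.conj (A.L k wd) (A.Xel a b t) ∈ H.XR (if a.1 = k then ng a else a) (if b.1 = k then ng b else b) := by
  have hex : ∀ (a : Sg n), ∃ c : F, (if k = a.1 then ac wd (bs a.2) else bs a.2 : Fin 2 → F) =
      c • bs (if a.1 = k then ng a else a).2 := by
    intro a
    by_cases hk : a.1 = k
    · rw [if_pos hk.symm, if_pos hk]
      exact exists_wd_bs a.2
    · rw [if_neg (Ne.symm hk), if_neg hk]
      exact ⟨1, by rw [one_smul]⟩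
  have hfst : ∀ a : Sg n, (if a.1 = k then ng a else a).1 = a.1 := by
    intro a; split_ifs <;> rfl
  by_cases h : a = b
  · subst h
    rw [Xel_self, H.conj_L_L]
    have e : (if k = a.1 then wd * tv (bs a.2) t * wd⁻¹ else tv (bs a.2) t : SpecialLinearGroup (Fin 2) F) =
        tv (if k = a.1 then ac wd (bs a.2) else bs a.2) t := by
      split_ifs
      · rw [conj_tv]
      · rfl
    rw [e]
    have := H.L_mem (hex a) t
    rwa [hfst] at this
  by_cases h1 : a.1 = b.1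
  · rw [Xel_opp A h1 h, map_one]
    exact Subgroup.one_mem _
  · rw [Xel_ne A h1, ← one_smul F (bs a.2), H.E_smul h1, one_smul, ← H.E_smul h1, H.conj_L_E h1]
    have e : (if k = a.1 then ac wd (t • bs a.2) else t • bs a.2 : Fin 2 → F) =
        t • (if k = a.1 then ac wd (bs a.2) else bs a.2) := by
      split_ifs
      · rw [ac_smul]
      · rfl
    rw [e]
    obtain ⟨c, hc⟩ := hex a
    have h2 : (if a.1 = k then ng a else a).1 ≠ (if b.1 = k then ng b else b).1 := by rwa [hfst, hfst]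
    have := H.E_mem' h2 (v := t • (if k = a.1 then ac wd (bs a.2) else bs a.2)) ⟨t * c, by rw [hc, smul_smul]⟩ (hex b)
    rwa [hfst, hfst] at this

theorem conj_S_Xel (π : Perm (Fin (n + 2))) (a b : Sg n) (t : F) :
    MulAut.conj (A.S π) (A.Xel a b t) = A.Xel (π a.1, a.2) (π b.1, b.2) t := by
  by_cases h : a = b
  · subst h
    rw [Xel_self, Xel_self, H.conj_S_L]
  by_cases h1 : a.1 = b.1
  · rw [Xel_opp A h1 h, map_one, Xel_opp]
    · simp only [h1]
    · intro e
      apply h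
      rw [Prod.mk.injEq] at e
      exact Prod.ext h1 e.2
  · rw [Xel_ne A h1, Xel_ne, H.conj_S_E h1]
    simp only [Ne, π.injective.eq_iff]
    exact h1

/-! ### Commutators -/

/-- The statement for a pair of (ordered) roots. -/
def CM (H : A.Sys2 ζ) (a b c d : Sg n) : Prop :=
  ∀ (s t : F) (K : Subgroup Q), (∀ p q : Sg n, q ≠ ng p → hs a + hs b < hs p + hs q → hs c + hs d < hs p + hs q →
    H.XR p q ≤ K) → 0 < hs a + hs b → 0 < hs c + hs d →
    A.Xel a b s * A.Xel c d t * (A.Xel a b s)⁻¹ * (A.Xel c d t)⁻¹ ∈ K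

theorem CM.swap {a b c d : Sg n} (h : H.CM a b c d) : H.CM c d a b := by
  intro s t K hK h1 h2
  have := K.inv_mem (h t s K (fun p q h0 ha hb => hK p q h0 hb ha) h2 h1)
  have e : (A.Xel a b t * A.Xel c d s * (A.Xel a b t)⁻¹ * (A.Xel c d s)⁻¹)⁻¹ =
    A.Xel c d s * A.Xel a b t * (A.Xel c d s)⁻¹ * (A.Xel a b t)⁻¹ := by group
  rwa [e] at this

theorem CM.symm_left {a b c d : Sg n} (h : H.CM a b c d) : H.CM b a c d := by
  intro s t K hK h1 h2
  rw [H.Xel_symm b a]
  exact h s t K (fun p q h0 ha hb => hK p q h0 (by rwa [add_comm] at ha) hb) (by rwa [add_comm] at h1) h2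

theorem CM.symm_right {a b c d : Sg n} (h : H.CM a b c d) : H.CM a b d c := by
  intro s t K hK h1 h2
  rw [H.Xel_symm d c]
  exact h s t K (fun p q h0 ha hb => hK p q h0 ha (by rwa [add_comm] at hb)) h1 (by rwa [add_comm] at h2)

theorem CM_of_comm {a b c d : Sg n} (h : ∀ s t, Commute (A.Xel a b s) (A.Xel c d t)) : H.CM a b c d := by
  intro s t K _ _ _
  rw [(h s t).eq, mul_inv_cancel_right, mul_inv_cancel]
  exact K.one_mem

theorem CM_self (a b : Sg n) : H.CM a b a b :=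
  H.CM_of_comm fun s t => by rw [Commute, SemiconjBy, H.Xel_add, H.Xel_add, add_comm]

theorem CM_opp_right {c d : Sg n} (h : c.1 = d.1) (h' : c ≠ d) (a b : Sg n) : H.CM a b c d :=
  H.CM_of_comm fun s t => by rw [Xel_opp A h h']; exact Commute.one_right _

/-- long - long -/
theorem CM_LL (a c : Sg n) : H.CM a a c c := by
  by_cases h : a.1 = c.1
  · rcases eq_or_ng h with rfl | rfl
    · exact H.CM_self _ _
    · intro s t K _ h1 h2
      rw [hs_ng] at h2
      omega
  · apply H.CM_of_comm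
    intro s t
    rw [Xel_self, Xel_self]
    exact H.L_comm h _ _

/-- long - short with common plane first -/
theorem CM_LS_aux (a c d : Sg n) (hcd : c.1 ≠ d.1) (h : a.1 = c.1) : H.CM a a c d := by
  rcases eq_or_ng h with rfl | rfl
  · apply H.CM_of_comm
    intro s t
    rw [Xel_self, Xel_ne A hcd]
    exact H.comm_T_E hcd _ _ _
  · intro s t K hK h1 h2
    rw [ng_fst] at hcd
    -- `T_a(s) E(-a, d)(t)`
    set v : Fin 2 → F := bs a.2 with hv
    set v' : Fin 2 → F := bs (ng a).2 with hv'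
    set w : Fin 2 → F := t • bs d.2 with hw
    have e1 : A.Xel (ng a) d t = A.E a.1 d.1 v' w := Xel_ne A (a := ng a) hcd t
    have e2 : A.Xel a a s = A.L a.1 (tv v s) := Xel_self A a s
    have e3 : A.Xel a a s * A.Xel (ng a) d t * (A.Xel a a s)⁻¹ = A.E a.1 d.1 (v' + (s * dd v' v) • v) w := by
      rw [e1, e2, H.E_L_left hcd, ac_tv]
    have e4 : A.E a.1 d.1 ((s * dd v' v) • v) w * A.E a.1 d.1 v' w =
        A.L d.1 (tv w (dd v' ((s * dd v' v) • v))) * A.E a.1 d.1 (v' + (s * dd v' v) • v) w := by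
      rw [H.E_symm hcd, H.E_symm hcd v', H.add (Ne.symm hcd), H.E_symm hcd, add_comm v']
    have e5 : A.E a.1 d.1 (v' + (s * dd v' v) • v) w =
        (A.L d.1 (tv w (dd v' ((s * dd v' v) • v))))⁻¹ *
          (A.E a.1 d.1 ((s * dd v' v) • v) w * A.E a.1 d.1 v' w) := by
      rw [e4]; group
    rw [e3, e5, e1]
    have e6 : (A.L d.1 (tv w (dd v' ((s * dd v' v) • v))))⁻¹ *
          (A.E a.1 d.1 ((s * dd v' v) • v) w * A.E a.1 d.1 v' w) * (A.E a.1 d.1 v' w)⁻¹ =
        (A.L d.1 (tv w (dd v' ((s * dd v' v) • v))))⁻¹ * A.E a.1 d.1 ((s * dd v' v) • v) w := by group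
    rw [e6]
    rw [hs_ng] at h2
    refine K.mul_mem (K.inv_mem ?_) ?_
    · refine hK d d (ng_ne d).symm ?_ ?_ (H.L_mem ⟨t, rfl⟩ _)
      · omega
      · rw [hs_ng]; omega
    · refine hK a d ?_ ?_ ?_ (H.E_mem' hcd ⟨_, rfl⟩ ⟨t, rfl⟩)
      · intro e
        exact hcd (by rw [e]; rfl)
      · omega
      · rw [hs_ng]; omega

theorem CM_LS (a c d : Sg n) (hcd : c.1 ≠ d.1) : H.CM a a c d := by
  by_cases h : a.1 = c.1
  · exact H.CM_LS_aux a c d hcd h
  by_cases h' : a.1 = d.1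
  · exact CM.symm_right H (H.CM_LS_aux a d c (Ne.symm hcd) h')
  · apply H.CM_of_comm
    intro s t
    rw [Xel_self, Xel_ne A hcd]
    exact H.E_L_other hcd h h' _ _ _

/-- short - short, common plane first -/
theorem CM_SS_aux (a b c d : Sg n) (hab : a.1 ≠ b.1) (hcd : c.1 ≠ d.1) (h : a.1 = c.1) : H.CM a b c d := by
  by_cases hbd : b.1 = d.1
  · -- two common planes
    rcases eq_or_ng h with rfl | rfl
    · rcases eq_or_ng hbd with rfl | rfl
      · exact H.CM_self _ _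
      · -- `E(a, b)`, `E(a, -b)`
        intro s t K hK h1 h2
        have e1 : A.Xel c b s = A.E c.1 b.1 (bs c.2) (s • bs b.2) := Xel_ne A hab s
        have e2 : A.Xel c (ng b) t = A.E c.1 b.1 (bs c.2) (t • bs (ng b).2) := Xel_ne A hcd t
        set v : Fin 2 → F := bs c.2 with hv
        set w : Fin 2 → F := s • bs b.2 with hw
        set w' : Fin 2 → F := t • bs (ng b).2 with hw'
        have e3 := H.add hab v w w'
        have e4 := H.add hab v w' w
        have e5 : A.E c.1 b.1 v w * A.E c.1 b.1 v w' = A.L c.1 (tv v (dd w' w - dd w w')) *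
            (A.E c.1 b.1 v w' * A.E c.1 b.1 v w) := by
          rw [e3, e4, ← mul_assoc, ← map_mul, ← tv_add, add_comm w' w]
          congr 3
          ring
        have e6 : A.Xel c b s * A.Xel c (ng b) t * (A.Xel c b s)⁻¹ * (A.Xel c (ng b) t)⁻¹ =
            A.L c.1 (tv v (dd w' w - dd w w')) := by
          rw [e1, e2, e5]; group
        rw [e6]
        rw [hs_ng] at h2
        refine hK c c (ng_ne c).symm ?_ ?_ (H.L_mem ⟨1, by rw [one_smul]⟩ _)
        · omega
        · rw [hs_ng]; omega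
    · rcases eq_or_ng hbd with rfl | rfl
      · -- `E(a, d)`, `E(-a, d)`
        intro s t K hK h1 h2
        rw [ng_fst] at hcd
        have e1 : A.Xel a d s = A.E d.1 a.1 (bs d.2) (s • bs a.2) := by
          rw [H.Xel_symm, Xel_ne A (Ne.symm hab)]
        have e2 : A.Xel (ng a) d t = A.E d.1 a.1 (bs d.2) (t • bs (ng a).2) := by
          rw [H.Xel_symm, Xel_ne A (b := ng a) (Ne.symm hcd)]; rfl
        set v : Fin 2 → F := bs d.2 with hv
        set w : Fin 2 → F := s • bs a.2 with hw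
        set w' : Fin 2 → F := t • bs (ng a).2 with hw'
        have e3 := H.add (Ne.symm hab) v w w'
        have e4 := H.add (Ne.symm hab) v w' w
        have e5 : A.E d.1 a.1 v w * A.E d.1 a.1 v w' = A.L d.1 (tv v (dd w' w - dd w w')) *
            (A.E d.1 a.1 v w' * A.E d.1 a.1 v w) := by
          rw [e3, e4, ← mul_assoc, ← map_mul, ← tv_add, add_comm w' w]
          congr 3
          ring
        have e6 : A.Xel a d s * A.Xel (ng a) d t * (A.Xel a d s)⁻¹ * (A.Xel (ng a) d t)⁻¹ =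
            A.L d.1 (tv v (dd w' w - dd w w')) := by
          rw [e1, e2, e5]; group
        rw [e6]
        rw [hs_ng] at h2
        refine hK d d (ng_ne d).symm ?_ ?_ (H.L_mem ⟨1, by rw [one_smul]⟩ _)
        · omega
        · rw [hs_ng]; omega
      · intro s t K _ h1 h2
        rw [hs_ng, hs_ng] at h2
        omega
  · -- three planes
    intro s t K hK h1 h2
    have had : a.1 ≠ d.1 := by rw [h]; exact hcd
    have e1 : A.Xel a b s = A.E a.1 b.1 (bs a.2) (s • bs b.2) := Xel_ne A hab s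
    have e2 : A.Xel c d t = A.E a.1 d.1 (bs c.2) (t • bs d.2) := by rw [Xel_ne A hcd, h]
    have e3 := H.comm3 hab had hbd (bs a.2) (bs c.2) (s • bs b.2) (t • bs d.2)
    have e4 := H.comm3 (i := d.1) (j := a.1) (k := b.1) (Ne.symm had) (Ne.symm hbd) hab (t • bs d.2)
      (t • bs d.2) (bs c.2) (dd (bs c.2 : Fin 2 → F) (bs a.2) • s • bs b.2)
    rw [dd_self, zero_smul, Sys1.E_zero_left, mul_one, H.E_symm (Ne.symm had), H.E_symm (Ne.symm hbd)] at e4
    have e5 : A.Xel a b s * A.Xel c d t * (A.Xel a b s)⁻¹ * (A.Xel c d t)⁻¹ =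
        A.E b.1 d.1 (dd (bs c.2 : Fin 2 → F) (bs a.2) • s • bs b.2) (t • bs d.2) := by
      rw [e1, e2, e3, e4]
    rw [e5]
    rcases eq_or_ng h with h3 | h3
    · rw [h3, dd_self, zero_smul, Sys1.E_zero_left]
      exact K.one_mem
    · rw [h3, hs_ng] at h2
      refine hK b d ?_ ?_ ?_ (H.E_mem' hbd ⟨_, (smul_smul _ _ _)⟩ ⟨t, rfl⟩)
      · intro e
        exact hbd (by rw [e]; rfl)
      · omega
      · rw [h3, hs_ng]; omega

theorem CM_SS (a b c d : Sg n) (hab : a.1 ≠ b.1) (hcd : c.1 ≠ d.1) : H.CM a b c d := by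
  by_cases h1 : a.1 = c.1
  · exact H.CM_SS_aux a b c d hab hcd h1
  by_cases h2 : a.1 = d.1
  · exact CM.symm_right H (H.CM_SS_aux a b d c hab (Ne.symm hcd) h2)
  by_cases h3 : b.1 = c.1
  · exact CM.symm_left H (H.CM_SS_aux b a c d (Ne.symm hab) hcd h3)
  by_cases h4 : b.1 = d.1
  · exact CM.symm_right H (CM.symm_left H (H.CM_SS_aux b a d c (Ne.symm hab) (Ne.symm hcd) h4))
  · apply H.CM_of_comm
    intro s t
    rw [Xel_ne A hab, Xel_ne A hcd]
    exact H.comm4 hab h1 h3 h2 h4 hcd _ _ _ _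

theorem CM_all (a b c d : Sg n) : H.CM a b c d := by
  by_cases hab : a.1 = b.1
  · by_cases hab' : a = b
    · subst hab'
      by_cases hcd : c.1 = d.1
      · by_cases hcd' : c = d
        · subst hcd'
          exact H.CM_LL a c
        · exact H.CM_opp_right hcd hcd' _ _
      · exact H.CM_LS a c d hcd
    · exact CM.swap H (H.CM_opp_right hab hab' _ _)
  · by_cases hcd : c.1 = d.1
    · by_cases hcd' : c = d
      · subst hcd'
        exact CM.swap H (H.CM_LS c a b hab)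
      · exact H.CM_opp_right hcd hcd' _ _
    · exact H.CM_SS a b c d hab hcd

end Sys2

end Pre

end Cfsg.Agent.H111
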