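import Cfsg.Agent.H111.SpConc

/-!
# Type `C`: injectivity (helper111, cluster S2284-S2297)
-/

set_option autoImplicit false

namespace Cfsg.Agent.H111

open Equiv
open Matrix (SpecialLinearGroup)
open Cfsg.Agent.ChevalleyStructure.SteinbergBruhat

section Sl2

variable {F : Type*} [Field F]

theorem wd_hd_wd (u : Fˣ) : (wd * hd u * wd⁻¹ : SpecialLinearGroup (Fin 2) F) = hd u⁻¹ := by
  rw [mul_inv_eq_iff_eq_mul]
  apply sl_ext
  · rw [ac_mul, ac_mul, ac_hd_ve, ac_smul, ac_wd_ve, ac_hd_vf, inv_inv]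
  · rw [ac_mul, ac_mul, ac_hd_vf, ac_smul, ac_wd_vf, ac_neg, ac_hd_ve, smul_neg]

end Sl2

namespace Pre

variable {n : ℕ} {F : Type*} [Field F] {Q : Type*} [Group Q]

theorem map_E (A : Pre n F Q) {Q' : Type*} [Group Q'] (f : Q →* Q') (i j : Fin (n + 2)) (v w : Fin 2 → F) :
    (A.map f).E i j v w = f (A.E i j v w) := by
  rw [E, E]
  split_ifs
  · rw [map_Y]
  · rw [map_one]
  · rw [map_one]

theorem map_Xel (A : Pre n F Q) {Q' : Type*} [Group Q'] (f : Q →* Q') (a b : Sg n) (t : F) :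
    (A.map f).Xel a b t = f (A.Xel a b t) := by
  rw [Xel, Xel]
  split_ifs
  · rw [map_L]
  · rw [map_one]
  · rw [map_E]

/-- The root datum. -/
noncomputable def rd (A : Pre n F Q) : RData Q (Root n) (Sim n) where
  pos r := 0 < r.ht
  neg := Root.neg
  sim := simR
  refl := Root.refl
  X r := Subgroup.closure {x | ∃ a b t, r.1 = s(a, b) ∧ x = A.Xel a b t}
  H := ⨆ i, ((A.L i).comp hdHom).range
  n := Sum.elim (fun i => A.S (swap i.castSucc i.succ)) fun _ => A.L (Fin.last (n + 1)) wd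

theorem rd_n_inl (A : Pre n F Q) (i : Fin (n + 1)) : A.rd.n (Sum.inl i) = A.S (swap i.castSucc i.succ) := rfl
theorem rd_n_inr (A : Pre n F Q) (u : Unit) : A.rd.n (Sum.inr u) = A.L (Fin.last (n + 1)) wd := rfl

theorem hd_mem_H (A : Pre n F Q) (i : Fin (n + 2)) (u : Fˣ) : A.L i (hd u) ∈ A.rd.H :=
  Subgroup.mem_iSup_of_mem i ⟨u, rfl⟩

theorem H_induction (A : Pre n F Q) {C : Q → Prop} (mem : ∀ i u, C (A.L i (hd u))) (one : C 1)
    (mul : ∀ x y, C x → C y → C (x * y)) {h : Q} (hh : h ∈ A.rd.H) : C h := by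
  refine Subgroup.iSup_induction (fun i => ((A.L i).comp hdHom).range) (C := C) hh ?_ one mul
  rintro i _ ⟨u, rfl⟩
  exact mem i u

namespace Sys2

variable {A : Pre n F Q} {ζ : F} (H : A.Sys2 ζ)
include H

theorem X_mkR (a b : Sg n) (h : b ≠ ng a) : A.rd.X (mkR a b h) = H.XR a b := by
  apply le_antisymm
  · change Subgroup.closure _ ≤ _
    rw [Subgroup.closure_le]
    rintro x ⟨c, d, t, e, rfl⟩
    have e' : s(a, b) = s(c, d) := e
    rw [Sym2.eq_iff] at e'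
    rcases e' with ⟨rfl, rfl⟩ | ⟨rfl, rfl⟩
    · exact ⟨t, rfl⟩
    · exact ⟨t, H.Xel_symm _ _ t⟩
  · rintro x ⟨t, rfl⟩
    exact Subgroup.subset_closure ⟨a, b, t, rfl, rfl⟩

theorem mem_X (r : Root n) (x : Q) : x ∈ A.rd.X r →
    ∃ a b, ∃ h : b ≠ ng a, ∃ t, r = mkR a b h ∧ x = A.Xel a b t := by
  revert r
  refine Root.ind fun a b h hx => ?_
  rw [H.X_mkR] at hx
  obtain ⟨t, rfl⟩ := hx
  exact ⟨a, b, h, t, rfl, rfl⟩

theorem conj_H {h : Q} (hh : h ∈ A.rd.H) : ∀ a b : Sg n, ∀ x ∈ H.XR a b, h * x * h⁻¹ ∈ H.XR a b := by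
  refine A.H_induction (C := fun h => ∀ a b : Sg n, ∀ x ∈ H.XR a b, h * x * h⁻¹ ∈ H.XR a b) ?_ ?_ ?_ hh
  · rintro i u a b x ⟨t, rfl⟩
    exact H.conj_hd_mem i u a b t
  · intro a b x hx
    simpa using hx
  · intro x y hx hy a b z hz
    have := hx a b _ (hy a b z hz)
    have e : x * (y * z * y⁻¹) * x⁻¹ = x * y * z * (x * y)⁻¹ := by group
    rwa [e] at this

theorem conj_n (i : Sim n) (a b : Sg n) (t : F) :
    A.rd.n i * A.Xel a b t * (A.rd.n i)⁻¹ ∈ H.XR (rho i a) (rho i b) := by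
  rcases i with i | u
  · rw [rd_n_inl]
    exact ⟨t, H.conj_S_Xel _ a b t⟩
  · rw [rd_n_inr]
    exact H.conj_wd_mem (Fin.last (n + 1)) a b t

theorem conj_nH (i : Sim n) {h : Q} (hh : h ∈ A.rd.H) : A.rd.n i * h * (A.rd.n i)⁻¹ ∈ A.rd.H := by
  refine A.H_induction (C := fun h => A.rd.n i * h * (A.rd.n i)⁻¹ ∈ A.rd.H) ?_ ?_ ?_ hh
  · intro j u
    rcases i with i | u'
    · rw [rd_n_inl, H.S_L]
      exact A.hd_mem_H _ _
    · rw [rd_n_inr]
      have := H.conj_L_L (Fin.last (n + 1)) j wd (hd u)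
      rw [MulAut.conj_apply] at this
      rw [this]
      split_ifs
      · rw [wd_hd_wd]
        exact A.hd_mem_H _ _
      · exact A.hd_mem_H _ _
  · simp
  · intro x y hx hy
    have := A.rd.H.mul_mem hx hy
    have e : A.rd.n i * x * (A.rd.n i)⁻¹ * (A.rd.n i * y * (A.rd.n i)⁻¹) = A.rd.n i * (x * y) * (A.rd.n i)⁻¹ := by
      group
    rwa [e] at this

theorem neg_one_mem (i : Fin (n + 2)) : A.L i (-1) ∈ A.rd.H := by
  rw [← hd_neg_one]
  exact A.hd_mem_H _ _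

theorem n_mul_n (i : Sim n) : A.rd.n i * A.rd.n i ∈ A.rd.H := by
  rcases i with i | u
  · rw [rd_n_inl, ← map_mul, swap_mul_self, map_one]
    exact Subgroup.one_mem _
  · rw [rd_n_inr, ← map_mul, wd_mul_wd]
    exact H.neg_one_mem _

theorem sim_ne (i : Fin (n + 1)) : ((i.succ, false) : Sg n) ≠ ng (i.castSucc, true) := by
  intro h
  have := congrArg (fun a : Sg n => a.1.val) h
  simp [ng] at this

theorem cs_ne (i : Fin (n + 1)) : i.castSucc ≠ i.succ := by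
  intro h
  have := congrArg Fin.val h
  simp at this

theorem X_sim_inl (i : Fin (n + 1)) : A.rd.X (A.rd.sim (Sum.inl i)) = H.XR (i.castSucc, true) (i.succ, false) :=
  H.X_mkR _ _ (H.sim_ne i)

theorem X_nsim_inl (i : Fin (n + 1)) :
    A.rd.X (A.rd.neg (A.rd.sim (Sum.inl i))) = H.XR (i.castSucc, false) (i.succ, true) := by
  change A.rd.X (simR (Sum.inl i)).neg = _
  rw [simR_inl i (H.sim_ne i), Root.neg, im_mkR, H.X_mkR]
  rfl

theorem X_sim_inr (u : Unit) :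
    A.rd.X (A.rd.sim (Sum.inr u)) = H.XR (Fin.last (n + 1), true) (Fin.last (n + 1), true) :=
  H.X_mkR _ _ (ng_ne _).symm

theorem X_nsim_inr (u : Unit) :
    A.rd.X (A.rd.neg (A.rd.sim (Sum.inr u))) = H.XR (Fin.last (n + 1), false) (Fin.last (n + 1), false) := by
  change A.rd.X (simR (Sum.inr u)).neg = _
  rw [simR_inr u (ng_ne _).symm, Root.neg, im_mkR, H.X_mkR]
  rfl

theorem n_mem (i : Sim n) :
    A.rd.n i ∈ A.rd.X (A.rd.sim i) ⊔ A.rd.X (A.rd.neg (A.rd.sim i)) ⊔ A.rd.H := by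
  rcases i with i | u
  · rw [rd_n_inl, H.X_sim_inl, H.X_nsim_inl, H.S_swap (H.cs_ne i)]
    have hne := H.cs_ne i
    have h1 : A.E i.castSucc i.succ ve vf ∈ H.XR (i.castSucc, true) (i.succ, false) :=
      H.E_mem' (a := (i.castSucc, true)) (b := (i.succ, false)) hne ⟨1, by simp⟩ ⟨1, by simp⟩
    have h2 : A.E i.castSucc i.succ vf (-ve) ∈ H.XR (i.castSucc, false) (i.succ, true) :=
      H.E_mem' (a := (i.castSucc, false)) (b := (i.succ, true)) hne ⟨1, by simp⟩ ⟨-1, by simp⟩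
    refine Subgroup.mul_mem _ (Subgroup.mul_mem _ (Subgroup.mul_mem _ ?_ ?_) ?_) ?_
    · exact (le_sup_left.trans le_sup_left : H.XR _ _ ≤ _) h1
    · exact (le_sup_right.trans le_sup_left : H.XR _ _ ≤ _) h2
    · exact (le_sup_left.trans le_sup_left : H.XR _ _ ≤ _) h1
    · exact (le_sup_right : A.rd.H ≤ _) (H.neg_one_mem _)
  · rw [rd_n_inr, H.X_sim_inr, H.X_nsim_inr, wd_eq, map_mul, map_mul]
    have h1 : A.L (Fin.last (n + 1)) (tv ve 1) ∈ H.XR (Fin.last (n + 1), true) (Fin.last (n + 1), true) :=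
      H.L_mem (a := (Fin.last (n + 1), true)) ⟨1, by simp⟩ 1
    have h2 : A.L (Fin.last (n + 1)) (tv vf 1) ∈ H.XR (Fin.last (n + 1), false) (Fin.last (n + 1), false) :=
      H.L_mem (a := (Fin.last (n + 1), false)) ⟨1, by simp⟩ 1
    refine Subgroup.mul_mem _ (Subgroup.mul_mem _ ?_ ?_) ?_
    · exact (le_sup_left.trans le_sup_left : H.XR _ _ ≤ _) h1
    · exact (le_sup_right.trans le_sup_left : H.XR _ _ ≤ _) h2
    · exact (le_sup_left.trans le_sup_left : H.XR _ _ ≤ _) h1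

theorem X_neg (i : Sim n) : ∀ x ∈ A.rd.X (A.rd.neg (A.rd.sim i)), x = 1 ∨
    ∃ a ∈ A.rd.X (A.rd.sim i), ∃ h ∈ A.rd.H, ∃ b ∈ A.rd.X (A.rd.sim i), x = a * (A.rd.n i * h) * b := by
  rcases i with i | u
  · rw [H.X_sim_inl, H.X_nsim_inl, rd_n_inl]
    rintro x ⟨t, rfl⟩
    have hne := H.cs_ne i
    rw [Xel_ne A (a := (i.castSucc, false)) (b := (i.succ, true)) hne]
    simp only [bs_false, bs_true]
    by_cases ht : t = 0
    · left; subst ht; simp
    right
    set p := i.castSucc with hp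
    set q := i.succ with hq
    -- conjugate the formula of the transposition by `g = hd (-t)` in the plane `q`
    set g : SpecialLinearGroup (Fin 2) F := hd (Units.mk0 (-t) (neg_ne_zero.2 ht)) with hg
    have hge : ac g ve = (-t) • ve := by rw [hg, ac_hd_ve, Units.val_mk0]
    have hgf : ac g vf = (-t)⁻¹ • vf := by rw [hg, ac_hd_vf, Units.val_inv_eq_inv_val, Units.val_mk0]
    have key := congrArg (MulAut.conj (A.L q g)) (H.S_swap hne)
    rw [map_mul, map_mul, map_mul] at key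
    simp only [H.conj_L_E hne, H.conj_L_L, if_neg (Ne.symm hne), if_true, hge, hgf, ac_neg] at key
    have e1 : -((-t) • ve) = (t • ve : Fin 2 → F) := by rw [neg_smul, neg_neg]
    rw [e1] at key
    have hS : A.L q g * A.S (swap p q) = A.S (swap p q) * A.L p g := by
      rw [H.S_L', swap_apply_left]
    refine ⟨(A.E p q ve ((-t)⁻¹ • vf))⁻¹, (H.XR _ _).inv_mem ?_, A.L p g * (A.L q g)⁻¹ * (A.L p (-1))⁻¹, ?_,
      (A.E p q ve ((-t)⁻¹ • vf))⁻¹, ?_, ?_⟩
    · exact H.E_mem' (a := (p, true)) (b := (q, false)) hne ⟨1, by simp⟩ ⟨_, rfl⟩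
    · exact A.rd.H.mul_mem (A.rd.H.mul_mem (A.hd_mem_H _ _) (A.rd.H.inv_mem (A.hd_mem_H _ _)))
        (A.rd.H.inv_mem (H.neg_one_mem _))
    · exact (H.XR _ _).inv_mem (H.E_mem' (a := (p, true)) (b := (q, false)) hne ⟨1, by simp⟩ ⟨_, rfl⟩)
    · rw [MulAut.conj_apply, hS] at key
      have e2 : A.E p q vf (t • ve) = (A.E p q ve ((-t)⁻¹ • vf))⁻¹ * (A.S (swap p q) * A.L p g * (A.L q g)⁻¹) *
          (A.L p (-1))⁻¹ * (A.E p q ve ((-t)⁻¹ • vf))⁻¹ := by
        rw [key]; group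
      rw [e2]; group
  · rw [H.X_sim_inr, H.X_nsim_inr, rd_n_inr]
    rintro x ⟨t, rfl⟩
    rw [Xel_self]
    simp only [bs_false]
    by_cases ht : t = 0
    · left; subst ht; simp
    right
    refine ⟨A.L (Fin.last (n + 1)) (tv ve (-(((Units.mk0 t ht)⁻¹ : Fˣ) : F))), ?_,
      A.L (Fin.last (n + 1)) (hd (Units.mk0 t ht)), A.hd_mem_H _ _,
      A.L (Fin.last (n + 1)) (tv ve (-(((Units.mk0 t ht)⁻¹ : Fˣ) : F))), ?_, ?_⟩
    · exact H.L_mem (a := (Fin.last (n + 1), true)) ⟨1, by simp⟩ _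
    · exact H.L_mem (a := (Fin.last (n + 1), true)) ⟨1, by simp⟩ _
    · rw [← map_mul, ← map_mul, ← map_mul, ← tv_vf_eq, Units.val_mk0]

theorem comm (r s : Root n) (hr : 0 < r.ht) (hs' : 0 < s.ht) (x : Q) (hx : x ∈ A.rd.X r) (y : Q)
    (hy : y ∈ A.rd.X s) :
    x * y * x⁻¹ * y⁻¹ ∈ ⨆ t, ⨆ (_ : r.ht < Root.ht t ∧ s.ht < Root.ht t), A.rd.X t := by
  obtain ⟨a, b, hab, t, rfl, rfl⟩ := H.mem_X _ _ hx
  obtain ⟨c, d, hcd, u, rfl, rfl⟩ := H.mem_X _ _ hy
  refine H.CM_all a b c d t u _ ?_ hr hs'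
  intro p q hpq h1 h2
  rw [← H.X_mkR p q hpq]
  exact le_iSup₂_of_le (f := fun t (_ : (mkR a b hab).ht < Root.ht t ∧ (mkR c d hcd).ht < Root.ht t) => A.rd.X t)
    (mkR p q hpq) ⟨h1, h2⟩ le_rfl

theorem gen (hgen : Subgroup.closure (Set.range A.S ∪ Set.range A.l ∪ {A.y}) = ⊤) :
    A.rd.B ⊔ Subgroup.closure (Set.range A.rd.n) = ⊤ := by
  set K := A.rd.B ⊔ Subgroup.closure (Set.range A.rd.n) with hK
  have hn : ∀ i, A.rd.n i ∈ K := fun i =>
    (le_sup_right : _ ≤ K) (Subgroup.subset_closure ⟨i, rfl⟩)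
  have hX : ∀ a b : Sg n, b ≠ ng a → 0 < hs a + hs b → ∀ t, A.Xel a b t ∈ K := by
    intro a b h hp t
    refine (le_sup_left : _ ≤ K) ((le_sup_left : A.rd.U ≤ A.rd.B) ?_)
    have : A.rd.X (mkR a b h) ≤ A.rd.U :=
      le_iSup₂_of_le (f := fun r (_ : A.rd.pos r) => A.rd.X r) (mkR a b h) hp le_rfl
    apply this
    rw [H.X_mkR]
    exact ⟨t, rfl⟩
  have hS : ∀ π, A.S π ∈ K := by
    intro π
    have h1 : π ∈ Submonoid.closure (Set.range fun i : Fin (n + 1) => swap i.castSucc i.succ) := by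
      rw [Equiv.Perm.mclosure_swap_castSucc_succ]; trivial
    have h2 : Submonoid.closure (Set.range fun i : Fin (n + 1) => swap i.castSucc i.succ) ≤
        (K.comap A.S).toSubmonoid := by
      rw [Submonoid.closure_le]
      rintro _ ⟨i, rfl⟩
      exact hn (Sum.inl i)
    exact h2 h1
  have hLast : ∀ g, A.L (Fin.last (n + 1)) g ∈ K := by
    have he : ∀ s, A.L (Fin.last (n + 1)) (tv ve s) ∈ K := by
      intro s
      have := hX (Fin.last (n + 1), true) (Fin.last (n + 1), true) (ng_ne _).symm (by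
        rw [hs_true]; simp only [Fin.val_last]; push_cast; omega) s
      rw [Xel_self] at this
      exact this
    have hw : A.L (Fin.last (n + 1)) wd ∈ K := hn (Sum.inr ())
    have hf : ∀ s, A.L (Fin.last (n + 1)) (tv vf s) ∈ K := by
      intro s
      have e : (tv vf s : SpecialLinearGroup (Fin 2) F) = wd * tv ve s * wd⁻¹ := by
        rw [conj_tv, ac_wd_ve]
      rw [e, map_mul, map_mul, map_inv]
      exact K.mul_mem (K.mul_mem hw (he s)) (K.inv_mem hw)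
    intro g
    have h1 := exists_eq_tv_mul g
    have h2 : Subgroup.closure ({x | ∃ s, x = tv ve s} ∪ {x | ∃ s, x = tv vf s} :
        Set (SpecialLinearGroup (Fin 2) F)) ≤ K.comap (A.L (Fin.last (n + 1))) := by
      rw [Subgroup.closure_le]
      rintro _ (⟨s, rfl⟩ | ⟨s, rfl⟩)
      · exact he s
      · exact hf s
    exact h2 h1
  have hL : ∀ i g, A.L i g ∈ K := by
    intro i g
    have h1 := H.S_L (swap (Fin.last (n + 1)) i) (Fin.last (n + 1)) g
    rw [swap_apply_left] at h1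
    rw [← h1]
    exact K.mul_mem (K.mul_mem (hS _) (hLast _)) (K.inv_mem (hS _))
  rw [eq_top_iff, ← hgen, Subgroup.closure_le]
  rintro x ((⟨π, rfl⟩ | ⟨g, rfl⟩) | rfl)
  · exact hS π
  · rw [← L_zero]
    exact hL 0 g
  · rw [H.y_eq]
    have h := hX (0, true) (1, true) (by simp [ng]) (by
      rw [hs_true, hs_true]
      simp only [Fin.val_zero, Fin.val_one]
      push_cast
      omega) 1
    rw [Xel_ne A (a := (0, true)) (b := (1, true)) h01, one_smul] at h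
    exact h

end Sys2

end Pre

end Cfsg.Agent.H111
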