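import Cfsg.Agent.H111.SpDatum

/-!
# The concrete symplectic group (helper111, cluster S2284-S2297)
-/

set_option autoImplicit false

namespace Cfsg.Agent.H111

open Equiv
open Matrix (SpecialLinearGroup)

section Model

variable (n : ℕ) (F : Type*) [Field F]

/-- The symplectic space: `n + 2` planes. -/
abbrev VV : Type _ := Fin (n + 2) → Fin 2 → F

variable {n F}

/-- The form. -/
def om (x y : VV n F) : F := ∑ i, dd (x i) (y i)

/-- permutation of the planes -/
def cS (π : Perm (Fin (n + 2))) : VV n F ≃ₗ[F] VV n F where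
  toFun x i := x (π⁻¹ i)
  invFun x i := x (π i)
  left_inv x := by funext i; simp
  right_inv x := by funext i; simp
  map_add' x y := rfl
  map_smul' c x := rfl

@[simp] theorem cS_apply (π : Perm (Fin (n + 2))) (x : VV n F) (i : Fin (n + 2)) : cS π x i = x (π⁻¹ i) := rfl

/-- `SL(2,F)` in the plane `i` -/
def cL (i : Fin (n + 2)) (g : SpecialLinearGroup (Fin 2) F) : VV n F ≃ₗ[F] VV n F where
  toFun x j := if j = i then ac g (x j) else x j
  invFun x j := if j = i then ac g⁻¹ (x j) else x j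
  left_inv x := by funext j; by_cases h : j = i <;> simp [h]
  right_inv x := by funext j; by_cases h : j = i <;> simp [h]
  map_add' x y := by funext j; by_cases h : j = i <;> simp [h, ac_add]
  map_smul' c x := by funext j; by_cases h : j = i <;> simp [h, ac_smul]

theorem cL_apply (i : Fin (n + 2)) (g : SpecialLinearGroup (Fin 2) F) (x : VV n F) (j : Fin (n + 2)) :
    cL i g x j = if j = i then ac g (x j) else x j := rfl

/-- the short root elements, as functions -/
def fE (i j : Fin (n + 2)) (v w : Fin 2 → F) (x : VV n F) : VV n F := fun k =>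
  x k + (if k = j then dd (x i) v • w else 0) + (if k = i then dd (x j) w • v else 0)

theorem fE_apply_i {i j : Fin (n + 2)} (hij : i ≠ j) (v w : Fin 2 → F) (x : VV n F) :
    fE i j v w x i = x i + dd (x j) w • v := by
  simp [fE, hij]
theorem fE_apply_j {i j : Fin (n + 2)} (hij : i ≠ j) (v w : Fin 2 → F) (x : VV n F) :
    fE i j v w x j = x j + dd (x i) v • w := by
  simp [fE, Ne.symm hij]
theorem fE_apply_k {i j k : Fin (n + 2)} (hki : k ≠ i) (hkj : k ≠ j) (v w : Fin 2 → F) (x : VV n F) :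
    fE i j v w x k = x k := by
  simp [fE, hki, hkj]

theorem fE_fE {i j : Fin (n + 2)} (hij : i ≠ j) (v w : Fin 2 → F) (x : VV n F) :
    fE i j v (-w) (fE i j v w x) = x := by
  funext k
  by_cases hi : k = i
  · subst hi
    rw [fE_apply_i hij, fE_apply_i hij, fE_apply_j hij, dd_neg_right, dd_add_left, dd_smul_left, dd_self]
    simp
  by_cases hj : k = j
  · subst hj
    rw [fE_apply_j hij, fE_apply_j hij, fE_apply_i hij, dd_add_left, dd_smul_left, dd_self]
    simp
  · rw [fE_apply_k hi hj, fE_apply_k hi hj]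

/-- the short root elements -/
def cE {i j : Fin (n + 2)} (hij : i ≠ j) (v w : Fin 2 → F) : VV n F ≃ₗ[F] VV n F where
  toFun := fE i j v w
  invFun := fE i j v (-w)
  left_inv x := fE_fE hij v w x
  right_inv x := by
    have := fE_fE hij v (-w) x
    rwa [neg_neg] at this
  map_add' x y := by
    funext k
    by_cases hi : k = i
    · subst hi
      rw [Pi.add_apply, fE_apply_i hij, fE_apply_i hij, fE_apply_i hij, Pi.add_apply, Pi.add_apply, dd_add_left,
        add_smul]
      abel
    by_cases hj : k = j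
    · subst hj
      rw [Pi.add_apply, fE_apply_j hij, fE_apply_j hij, fE_apply_j hij, Pi.add_apply, Pi.add_apply, dd_add_left,
        add_smul]
      abel
    · rw [Pi.add_apply, fE_apply_k hi hj, fE_apply_k hi hj, fE_apply_k hi hj, Pi.add_apply]
  map_smul' c x := by
    funext k
    by_cases hi : k = i
    · subst hi
      rw [Pi.smul_apply, fE_apply_i hij, fE_apply_i hij, Pi.smul_apply, Pi.smul_apply, dd_smul_left, smul_add,
        smul_smul, RingHom.id_apply]
    by_cases hj : k = j
    · subst hj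
      rw [Pi.smul_apply, fE_apply_j hij, fE_apply_j hij, Pi.smul_apply, Pi.smul_apply, dd_smul_left, smul_add,
        smul_smul, RingHom.id_apply]
    · rw [Pi.smul_apply, fE_apply_k hi hj, fE_apply_k hi hj, Pi.smul_apply, RingHom.id_apply]

theorem cE_apply {i j : Fin (n + 2)} (hij : i ≠ j) (v w : Fin 2 → F) (x : VV n F) : cE hij v w x = fE i j v w x := rfl

/-! ### isometries -/

theorem om_cS (π : Perm (Fin (n + 2))) (x y : VV n F) : om (cS π x) (cS π y) = om x y := by
  simp only [om, cS_apply]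
  exact Equiv.sum_comp π⁻¹ (fun i => dd (x i) (y i))

theorem om_cL (i : Fin (n + 2)) (g : SpecialLinearGroup (Fin 2) F) (x y : VV n F) :
    om (cL i g x) (cL i g y) = om x y := by
  simp only [om, cL_apply]
  refine Finset.sum_congr rfl fun j _ => ?_
  split_ifs
  · rw [dd_ac]
  · rfl

theorem om_cE {i j : Fin (n + 2)} (hij : i ≠ j) (v w : Fin 2 → F) (x y : VV n F) :
    om (cE hij v w x) (cE hij v w y) = om x y := by
  simp only [om, cE_apply]
  have e : ∀ z : VV n F → VV n F → Fin (n + 2) → F, z = z := fun _ => rfl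
  rw [← Finset.add_sum_erase _ _ (Finset.mem_univ i), ← Finset.add_sum_erase _ (fun k => dd (x k) (y k)) (Finset.mem_univ i),
    ← Finset.add_sum_erase _ _ (Finset.mem_erase.2 ⟨Ne.symm hij, Finset.mem_univ j⟩),
    ← Finset.add_sum_erase _ (fun k => dd (x k) (y k)) (Finset.mem_erase.2 ⟨Ne.symm hij, Finset.mem_univ j⟩)]
  have h : ∑ k ∈ (Finset.univ.erase i).erase j, dd (fE i j v w x k) (fE i j v w y k) =
      ∑ k ∈ (Finset.univ.erase i).erase j, dd (x k) (y k) := by
    refine Finset.sum_congr rfl fun k hk => ?_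
    have hj := Finset.ne_of_mem_erase hk
    have hi := Finset.ne_of_mem_erase (Finset.mem_of_mem_erase hk)
    rw [fE_apply_k hi hj, fE_apply_k hi hj]
  rw [h, fE_apply_i hij, fE_apply_i hij, fE_apply_j hij, fE_apply_j hij]
  simp only [dd_add_left, dd_add_right, dd_smul_left, dd_smul_right, dd_self, mul_zero, add_zero]
  rw [dd_swap v (y i), dd_swap w (y j)]
  ring

variable (n F) in
/-- The symplectic group of `VV`. -/
def SpV : Subgroup (VV n F ≃ₗ[F] VV n F) where
  carrier := {g | ∀ x y, om (g x) (g y) = om x y}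
  mul_mem' := by
    intro g h hg hh x y
    rw [LinearEquiv.mul_apply, LinearEquiv.mul_apply, hg, hh]
  one_mem' := fun _ _ => rfl
  inv_mem' := by
    intro g hg x y
    rw [← hg, ← LinearEquiv.mul_apply, ← LinearEquiv.mul_apply, mul_inv_cancel]
    rfl

theorem mem_SpV {g : VV n F ≃ₗ[F] VV n F} : g ∈ SpV n F ↔ ∀ x y, om (g x) (g y) = om x y := Iff.rfl

/-! ### relations -/

theorem cS_mul (π σ : Perm (Fin (n + 2))) : (cS (π * σ) : VV n F ≃ₗ[F] VV n F) = cS π * cS σ := by
  ext1 x; funext i
  simp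

theorem cL_mul (i : Fin (n + 2)) (g h : SpecialLinearGroup (Fin 2) F) :
    (cL i (g * h) : VV n F ≃ₗ[F] VV n F) = cL i g * cL i h := by
  ext1 x; funext j
  rw [LinearEquiv.mul_apply, cL_apply, cL_apply, cL_apply]
  split_ifs
  · rw [ac_mul]
  · rfl

theorem cS_one : (cS 1 : VV n F ≃ₗ[F] VV n F) = 1 := by
  ext1 x; funext i; simp

theorem cL_one (i : Fin (n + 2)) : (cL i 1 : VV n F ≃ₗ[F] VV n F) = 1 := by
  ext1 x; funext j
  rw [cL_apply]
  split_ifs <;> simp

theorem cS_cL (π : Perm (Fin (n + 2))) (i : Fin (n + 2)) (g : SpecialLinearGroup (Fin 2) F) :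
    cS π * cL i g = cL (π i) g * cS π := by
  ext1 x; funext j
  simp only [LinearEquiv.mul_apply, cL_apply, cS_apply]
  by_cases h : j = π i
  · rw [if_pos h, if_pos (by rw [h]; simp)]
  · rw [if_neg h, if_neg (by rintro rfl; simp at h)]

theorem cL_cL {i j : Fin (n + 2)} (hij : i ≠ j) (g h : SpecialLinearGroup (Fin 2) F) :
    (cL i g * cL j h : VV n F ≃ₗ[F] VV n F) = cL j h * cL i g := by
  ext1 x; funext k
  simp only [LinearEquiv.mul_apply, cL_apply]
  by_cases h1 : k = i
  · subst h1; simp [hij]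
  · simp [h1]

theorem cS_cE (π : Perm (Fin (n + 2))) {i j : Fin (n + 2)} (hij : i ≠ j) (v w : Fin 2 → F)
    (h : π i ≠ π j) : cS π * cE hij v w = cE h v w * cS π := by
  ext1 x; funext k
  obtain ⟨k, rfl⟩ := π.surjective k
  simp only [LinearEquiv.mul_apply, cE_apply, cS_apply]
  rw [show π⁻¹ (π k) = k by simp]
  by_cases h1 : k = i
  · subst h1
    rw [fE_apply_i hij, fE_apply_i h]
    simp
  by_cases h2 : k = j
  · subst h2
    rw [fE_apply_j hij, fE_apply_j h]
    simp
  · rw [fE_apply_k h1 h2, fE_apply_k (π.injective.ne h1) (π.injective.ne h2)]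
    simp

theorem cL_cE_left {i j : Fin (n + 2)} (hij : i ≠ j) (g : SpecialLinearGroup (Fin 2) F) (v w : Fin 2 → F) :
    cL i g * cE hij v w = cE hij (ac g v) w * cL i g := by
  ext1 x; funext k
  simp only [LinearEquiv.mul_apply, cE_apply, cL_apply]
  by_cases h1 : k = i
  · subst h1
    rw [if_pos rfl, fE_apply_i hij, fE_apply_i hij, cL_apply, cL_apply, if_pos rfl, if_neg (Ne.symm hij),
      ac_add, ac_smul]
  by_cases h2 : k = j
  · subst h2
    rw [if_neg h1, fE_apply_j hij, fE_apply_j hij, cL_apply, cL_apply, if_pos rfl, if_neg (Ne.symm hij), dd_ac]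
  · rw [if_neg h1, fE_apply_k h1 h2, fE_apply_k h1 h2, cL_apply, if_neg h1]

theorem cE_symm {i j : Fin (n + 2)} (hij : i ≠ j) (v w : Fin 2 → F) : cE hij v w = cE (Ne.symm hij) w v := by
  ext1 x; funext k
  simp only [cE_apply, fE]
  abel

theorem cL_cE_right {i j : Fin (n + 2)} (hij : i ≠ j) (g : SpecialLinearGroup (Fin 2) F) (v w : Fin 2 → F) :
    cL j g * cE hij v w = cE hij v (ac g w) * cL j g := by
  rw [cE_symm hij, cL_cE_left, ← cE_symm]

theorem cL_cE_other {i j k : Fin (n + 2)} (hij : i ≠ j) (hki : k ≠ i) (hkj : k ≠ j)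
    (g : SpecialLinearGroup (Fin 2) F) (v w : Fin 2 → F) : cL k g * cE hij v w = cE hij v w * cL k g := by
  ext1 x; funext l
  simp only [LinearEquiv.mul_apply, cE_apply, cL_apply]
  by_cases h1 : l = i
  · subst h1
    rw [if_neg (Ne.symm hki), fE_apply_i hij, fE_apply_i hij, cL_apply, cL_apply, if_neg (Ne.symm hki),
      if_neg (Ne.symm hkj)]
  by_cases h2 : l = j
  · subst h2
    rw [if_neg (Ne.symm hkj), fE_apply_j hij, fE_apply_j hij, cL_apply, cL_apply, if_neg (Ne.symm hki),
      if_neg (Ne.symm hkj)]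
  · rw [fE_apply_k h1 h2, fE_apply_k h1 h2, cL_apply]

theorem cE_smul {i j : Fin (n + 2)} (hij : i ≠ j) (a : F) (v w : Fin 2 → F) : cE hij (a • v) w = cE hij v (a • w) := by
  ext1 x; funext k
  simp only [cE_apply]
  by_cases h1 : k = i
  · subst h1
    rw [fE_apply_i hij, fE_apply_i hij, dd_smul_right, smul_smul, mul_comm]
  by_cases h2 : k = j
  · subst h2
    rw [fE_apply_j hij, fE_apply_j hij, dd_smul_right, smul_smul, mul_comm]
  · rw [fE_apply_k h1 h2, fE_apply_k h1 h2]

theorem cE_add {i j : Fin (n + 2)} (hij : i ≠ j) (v w w' : Fin 2 → F) :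
    cE hij v w * cE hij v w' = cL i (tv v (dd w' w)) * cE hij v (w + w') := by
  ext1 x; funext k
  simp only [LinearEquiv.mul_apply, cE_apply, cL_apply]
  by_cases h1 : k = i
  · subst h1
    rw [if_pos rfl, fE_apply_i hij, fE_apply_i hij, fE_apply_i hij, fE_apply_j hij, ac_tv, dd_add_left,
      dd_smul_left, dd_add_left, dd_smul_left, dd_self, dd_add_right, mul_zero, add_zero, add_smul, add_smul,
      mul_comm (dd w' w)]
    abel
  by_cases h2 : k = j
  · subst h2
    rw [if_neg h1, fE_apply_j hij, fE_apply_j hij, fE_apply_j hij, fE_apply_i hij, dd_add_left,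
      dd_smul_left, dd_self, mul_zero, add_zero, smul_add]
    abel
  · rw [if_neg h1, fE_apply_k h1 h2, fE_apply_k h1 h2, fE_apply_k h1 h2]

theorem cE_comm3 {i j k : Fin (n + 2)} (hij : i ≠ j) (hik : i ≠ k) (hjk : j ≠ k) (v v' w w' : Fin 2 → F) :
    cE hij v w * cE hik v' w' = cE hik v' w' * cE hjk (dd v' v • w) w' * cE hij v w := by
  ext1 x; funext l
  simp only [LinearEquiv.mul_apply, cE_apply]
  by_cases h1 : l = i
  · subst h1
    simp only [fE_apply_i hij, fE_apply_j hij, fE_apply_k (Ne.symm hik) (Ne.symm hjk), fE_apply_i hik,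
      fE_apply_j hik, fE_apply_k (Ne.symm hij) hjk, fE_apply_i hjk, fE_apply_j hjk, fE_apply_k hij hik,
      dd_add_left, dd_smul_left, dd_add_right, dd_smul_right, dd_self, mul_zero, add_zero]
    abel
  by_cases h2 : l = j
  · subst h2
    simp only [fE_apply_i hij, fE_apply_j hij, fE_apply_k (Ne.symm hik) (Ne.symm hjk), fE_apply_i hik,
      fE_apply_j hik, fE_apply_k (Ne.symm hij) hjk, fE_apply_i hjk, fE_apply_j hjk, fE_apply_k hij hik,
      dd_add_left, dd_smul_left, dd_add_right, dd_smul_right, dd_self, mul_zero, add_zero, smul_smul, add_smul]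
    abel
  by_cases h3 : l = k
  · subst h3
    simp only [fE_apply_i hij, fE_apply_j hij, fE_apply_k (Ne.symm hik) (Ne.symm hjk), fE_apply_i hik,
      fE_apply_j hik, fE_apply_k (Ne.symm hij) hjk, fE_apply_i hjk, fE_apply_j hjk, fE_apply_k hij hik,
      dd_add_left, dd_smul_left, dd_add_right, dd_smul_right, dd_self, mul_zero, add_zero, smul_smul, add_smul]
    rw [dd_swap v v']
    module
  · simp only [fE_apply_k h1 h2, fE_apply_k h1 h3, fE_apply_k h2 h3]

theorem cE_comm4 {i j k l : Fin (n + 2)} (hij : i ≠ j) (hik : i ≠ k) (hjk : j ≠ k) (hil : i ≠ l) (hjl : j ≠ l)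
    (hkl : k ≠ l) (v v' w w' : Fin 2 → F) : cE hij v w * cE hkl v' w' = cE hkl v' w' * cE hij v w := by
  ext1 x; funext p
  simp only [LinearEquiv.mul_apply, cE_apply]
  by_cases h1 : p = i
  · subst h1
    simp only [fE_apply_i hij, fE_apply_k hik hil, fE_apply_k hjk hjl]
  by_cases h2 : p = j
  · subst h2
    simp only [fE_apply_j hij, fE_apply_k hik hil, fE_apply_k hjk hjl]
  by_cases h3 : p = k
  · subst h3
    simp only [fE_apply_i hkl, fE_apply_k h1 h2, fE_apply_k (Ne.symm hil) (Ne.symm hjl)]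
  by_cases h4 : p = l
  · subst h4
    simp only [fE_apply_j hkl, fE_apply_k h1 h2, fE_apply_k (Ne.symm hik) (Ne.symm hjk)]
  · simp only [fE_apply_k h1 h2, fE_apply_k h3 h4]

theorem cS_swap {i j : Fin (n + 2)} (hij : i ≠ j) :
    (cS (swap i j) : VV n F ≃ₗ[F] VV n F) = cE hij ve vf * cE hij vf (-ve) * cE hij ve vf * cL i (-1) := by
  ext1 x; funext k
  simp only [LinearEquiv.mul_apply, cE_apply, cS_apply, swap_inv]
  by_cases h1 : k = i
  · subst h1
    simp only [fE_apply_i hij, fE_apply_j hij, swap_apply_left, cL_apply, if_true, if_neg (Ne.symm hij), ac_neg_one]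
    apply ext2 <;> simp [dd]
  by_cases h2 : k = j
  · subst h2
    simp only [fE_apply_i hij, fE_apply_j hij, swap_apply_right, cL_apply, if_true, if_neg (Ne.symm hij), ac_neg_one]
    apply ext2 <;> simp [dd]
  · simp only [fE_apply_k h1 h2, cL_apply, if_neg h1, swap_apply_of_ne_of_ne h1 h2]

end Model

end Cfsg.Agent.H111
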