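import Cfsg.Agent.H111.SpConc
import Cfsg.Agent.TitsThree.SpIdent

/-!
# Generation of the symplectic group, identification (helper111, cluster S2284-S2297)
-/

set_option autoImplicit false

namespace Cfsg.Agent.H111

open Equiv
open Matrix (SpecialLinearGroup)
open Cfsg.Agent.TitsThree.SpIdent Cfsg.Agent.ClassicalGeometry.SympBasic

section Surj

variable {n : ℕ} {F : Type*} [Field F]

/-- the two models -/
def toSum : VV n F ≃ₗ[F] (Fin (n + 2) ⊕ Fin (n + 2) → F) where
  toFun x := Sum.elim (fun i => x i 1) fun i => x i 0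
  invFun y i := ![y (Sum.inr i), y (Sum.inl i)]
  left_inv x := by
    funext i
    apply ext2 <;> simp
  right_inv y := by
    funext i
    rcases i with i | i <;> simp
  map_add' x y := by
    funext i
    rcases i with i | i <;> rfl
  map_smul' c x := by
    funext i
    rcases i with i | i <;> rfl

theorem symp_toSum (x y : VV n F) : sympForm (n + 2) F (toSum x) (toSum y) = om x y := by
  rw [sympForm_eq_sum, om]
  rfl

/-- `SpV` and the isometry group of the library -/
def toIsos : SpV n F ≃* isos (form (n + 2) F) where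
  toFun g := ⟨(toSum.symm.trans g.1).trans toSum, by
    intro u v
    change sympForm (n + 2) F (toSum (g.1 (toSum.symm u))) (toSum (g.1 (toSum.symm v))) = sympForm (n + 2) F u v
    rw [symp_toSum, g.2, ← symp_toSum]
    simp⟩
  invFun g := ⟨(toSum.trans g.1).trans toSum.symm, by
    intro u v
    change om (toSum.symm (g.1 (toSum u))) (toSum.symm (g.1 (toSum v))) = om u v
    rw [← symp_toSum, ← symp_toSum]
    simp only [LinearEquiv.apply_symm_apply]
    exact g.2 _ _⟩
  left_inv g := by
    apply Subtype.ext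
    ext1 x
    change toSum.symm (toSum (g.1 (toSum.symm (toSum x)))) = g.1 x
    simp
  right_inv g := by
    apply Subtype.ext
    ext1 x
    change toSum (toSum.symm (g.1 (toSum (toSum.symm x)))) = g.1 x
    simp
  map_mul' g h := by
    apply Subtype.ext
    ext1 x
    change toSum ((g * h).1 (toSum.symm x)) = toSum (g.1 (toSum.symm (toSum (h.1 (toSum.symm x)))))
    rw [LinearEquiv.symm_apply_apply]
    rfl

/-- `SpV` is the symplectic group -/
noncomputable def spEquiv : SpV n F ≃* Matrix.symplecticGroup (Fin (n + 2)) F :=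
  toIsos.trans (MulEquiv.ofBijective (toSp (m := n + 2) (F := F)) ⟨toSp_injective, toSp_surjective⟩)

/-- The subgroup generated by the data. -/
def KK (n : ℕ) (F : Type*) [Field F] : Subgroup (SpV n F) :=
  Subgroup.closure (Set.range (cpre n F).S ∪ Set.range (cpre n F).l ∪ {(cpre n F).y})

theorem S_mem_KK (π : Perm (Fin (n + 2))) : (cpre n F).S π ∈ KK n F :=
  Subgroup.subset_closure (Or.inl (Or.inl ⟨π, rfl⟩))
theorem l_mem_KK (g : SpecialLinearGroup (Fin 2) F) : (cpre n F).l g ∈ KK n F :=
  Subgroup.subset_closure (Or.inl (Or.inr ⟨g, rfl⟩))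
theorem y_mem_KK : (cpre n F).y ∈ KK n F := Subgroup.subset_closure (Or.inr rfl)
theorem L_mem_KK (i : Fin (n + 2)) (g : SpecialLinearGroup (Fin 2) F) : (cpre n F).L i g ∈ KK n F := by
  rw [Pre.L_apply]
  exact Subgroup.mul_mem _ (Subgroup.mul_mem _ (S_mem_KK _) (l_mem_KK _)) (Subgroup.inv_mem _ (S_mem_KK _))
theorem E_mem_KK {i j : Fin (n + 2)} (hij : i ≠ j) (v w : Fin 2 → F) : (cpre n F).E i j v w ∈ KK n F := by
  refine cpre_sys1.E_cases (A := cpre n F) (fun _ _ _ _ x => x ∈ KK n F) ?_ ?_ ?_ hij v w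
  · intro i j w _; exact Subgroup.one_mem _
  · intro i j w _; exact Subgroup.one_mem _
  · intro π g h
    have hz : (cpre n F).z π g h ∈ KK n F :=
      Subgroup.mul_mem _ (S_mem_KK _) (Subgroup.mul_mem _ (L_mem_KK _ _) (L_mem_KK _ _))
    exact Subgroup.mul_mem _ (Subgroup.mul_mem _ hz y_mem_KK) (Subgroup.inv_mem _ hz)

theorem exists_kill (x : VV n F) (i : Fin (n + 2)) (hi : x i ≠ 0) (s : Finset (Fin (n + 2))) (his : i ∉ s) :
    ∃ g ∈ KK n F, ∀ k, g.1 x k = if k ∈ s then 0 else x k := by
  classical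
  induction s using Finset.induction_on with
  | empty => exact ⟨1, Subgroup.one_mem _, fun k => by simp⟩
  | insert j s hj ih =>
    obtain ⟨g, hg, hgx⟩ := ih (fun h => his (Finset.mem_insert_of_mem h))
    have hij : i ≠ j := fun h => his (h ▸ Finset.mem_insert_self _ _)
    obtain ⟨u, hu⟩ := exists_dd_ne hi
    refine ⟨(cpre n F).E i j u (-(x j)) * g, Subgroup.mul_mem _ (E_mem_KK hij _ _) hg, fun k => ?_⟩
    rw [Subgroup.coe_mul, LinearEquiv.mul_apply, cpre_E hij, cE_apply]
    have his' : i ∉ s := fun h => his (Finset.mem_insert_of_mem h)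
    by_cases h1 : k = i
    · subst h1
      rw [fE_apply_i hij, hgx, hgx, if_neg his', if_neg hj, if_neg his, dd_neg_right, dd_self]
      simp
    by_cases h2 : k = j
    · subst h2
      rw [fE_apply_j hij, hgx, hgx, if_neg his', if_neg hj, if_pos (Finset.mem_insert_self _ _), hu]
      simp
    · rw [fE_apply_k h1 h2, hgx]
      simp [h2]

theorem exists_to_base (x : VV n F) (hx : x ≠ 0) : ∃ g ∈ KK n F, g.1 (Pi.single 0 ve) = x := by
  obtain ⟨i, hi⟩ : ∃ i, x i ≠ 0 := by
    by_contra h
    push Not at h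
    exact hx (funext h)
  obtain ⟨g, hg, hgx⟩ := exists_kill x i hi (Finset.univ.erase i) (by simp)
  obtain ⟨k, hk⟩ := exists_col hi
  refine ⟨g⁻¹ * (cpre n F).L i k * (cpre n F).S (swap 0 i), Subgroup.mul_mem _ (Subgroup.mul_mem _
    (Subgroup.inv_mem _ hg) (L_mem_KK _ _)) (S_mem_KK _), ?_⟩
  have h1 : (cpre n F).L i k * (cpre n F).S (swap 0 i) * g⁻¹ = (cpre n F).L i k * (cpre n F).S (swap 0 i) * g⁻¹ := rfl
  rw [Subgroup.coe_mul, Subgroup.coe_mul, LinearEquiv.mul_apply, LinearEquiv.mul_apply, cpre_S, cpre_L]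
  have h2 : cL i k (cS (swap 0 i) (Pi.single 0 ve : VV n F)) = g.1 x := by
    funext j
    rw [cL_apply, cS_apply, hgx, swap_inv]
    by_cases h : j = i
    · subst h
      rw [swap_apply_right, Pi.single_eq_same]
      simp [hk]
    · rw [if_neg h, if_pos (by simp [h]), Pi.single_eq_of_ne]
      intro e
      apply h
      rw [← swap_apply_self 0 i j, e, swap_apply_left]
  rw [h2, ← LinearEquiv.mul_apply, ← Subgroup.coe_mul, inv_mul_cancel]
  rfl

theorem KK_eq_top : KK n F = ⊤ := by
  have h1 : (KK n F).map (toIsos (n := n) (F := F)).toMonoidHom = ⊤ := by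
    apply isos_eq_of_sie
    intro u c
    by_cases hu : u = 0
    · subst hu
      refine ⟨1, Subgroup.one_mem _, ?_⟩
      rw [map_one]
      apply Subtype.ext
      ext1 v
      change v = v + sympForm (n + 2) F v 0 • (0 : Fin (n + 2) ⊕ Fin (n + 2) → F) - ((-1 : F)⁻¹ * sympForm (n + 2) F v 0) • 0 +
        (c * sympForm (n + 2) F v 0) • 0
      simp
    · obtain ⟨g, hg, hgx⟩ := exists_to_base (n := n) (F := F) (toSum.symm u) (by simpa using hu)
      refine ⟨g * (cpre n F).L 0 (tv ve c) * g⁻¹, Subgroup.mul_mem _ (Subgroup.mul_mem _ hg (L_mem_KK _ _))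
        (Subgroup.inv_mem _ hg), ?_⟩
      apply Subtype.ext
      ext1 v
      obtain ⟨x, rfl⟩ := toSum.surjective v
      change toSum ((g * (cpre n F).L 0 (tv ve c) * g⁻¹).1 (toSum.symm (toSum x))) =
        toSum x + sympForm (n + 2) F (toSum x) u • (0 : Fin (n + 2) ⊕ Fin (n + 2) → F) -
        ((-1 : F)⁻¹ * sympForm (n + 2) F (toSum x) 0) • u + (c * sympForm (n + 2) F (toSum x) u) • u
      rw [sympForm_zero_right, smul_zero, add_zero, mul_zero, zero_smul, sub_zero, LinearEquiv.symm_apply_apply]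
      obtain ⟨z, hz⟩ : ∃ z, z = toSum.symm u := ⟨_, rfl⟩
      have hu' : u = toSum z := by rw [hz]; simp
      rw [hu', symp_toSum, ← map_smul, ← map_add]
      congr 1
      rw [← hz] at hgx
      rw [Subgroup.coe_mul, Subgroup.coe_mul, LinearEquiv.mul_apply, LinearEquiv.mul_apply, cpre_L]
      have h3 : ∀ y : VV n F, cL 0 (tv ve c) y = y + (c * om y (Pi.single 0 ve)) • (Pi.single 0 ve : VV n F) := by
        intro y
        funext j
        have h4 : om y (Pi.single 0 ve : VV n F) = dd (y 0) ve := by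
          rw [om, Finset.sum_eq_single 0]
          · rw [Pi.single_eq_same]
          · intro j _ hj
            rw [Pi.single_eq_of_ne hj, dd_zero_right]
          · intro h; exact absurd (Finset.mem_univ _) h
        rw [cL_apply, h4, Pi.add_apply, Pi.smul_apply]
        by_cases h : j = 0
        · subst h
          rw [if_pos rfl, ac_tv, Pi.single_eq_same]
        · rw [if_neg h, Pi.single_eq_of_ne h, smul_zero, add_zero]
      rw [h3, map_add, map_smul, hgx]
      have h5 : om (g⁻¹.1 x) (Pi.single 0 ve) = om x z := by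
        rw [← hgx, ← g.2 (g⁻¹.1 x)]
        congr 1
        rw [← LinearEquiv.mul_apply, ← Subgroup.coe_mul, mul_inv_cancel]
        rfl
      rw [h5, ← LinearEquiv.mul_apply, ← Subgroup.coe_mul, mul_inv_cancel]
      rfl
  rw [eq_top_iff]
  intro g _
  have h2 : toIsos g ∈ (KK n F).map (toIsos (n := n) (F := F)).toMonoidHom := by rw [h1]; trivial
  obtain ⟨g', hg', h3⟩ := h2
  rwa [← toIsos.injective h3]

end Surj

end Cfsg.Agent.H111
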