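import Cfsg.Agent.H111.SpSys
import Cfsg.Agent.H111.SpInj
import Cfsg.Agent.H111.SpSurj
import Cfsg.Agent.H111.Pres

/-!
# Presentations of the symplectic groups (helper111, cluster S2284-S2297)
-/

set_option autoImplicit false

universe u

namespace Cfsg.Agent.H111

open Equiv
open Matrix (SpecialLinearGroup)

theorem HasPres.exists_gen {G : Type*} [Group G] {k m : ℕ} (h : HasPres G k m) :
    ∃ g : Fin k → G, Subgroup.closure (Set.range g) = ⊤ := by
  obtain ⟨f, _, hf, _, _⟩ := hasPres_iff.1 h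
  refine ⟨fun i => f (FreeGroup.of i), ?_⟩
  rw [← FreeGroup.range_lift_eq_closure, MonoidHom.range_eq_top]
  have e : FreeGroup.lift (fun i => f (FreeGroup.of i)) = f := by ext i; simp
  rwa [e]

/-- Symmetric groups are 2-generated. -/
theorem perm_two_gen (α : Type*) [Fintype α] : ∃ a b : Perm α, Subgroup.closure {a, b} = (⊤ : Subgroup (Perm α)) := by
  classical
  have key : ∀ m : ℕ, ∃ a b : Perm (Fin m), Subgroup.closure {a, b} = (⊤ : Subgroup (Perm (Fin m))) := by
    intro m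
    rcases m with _ | _ | m
    · exact ⟨1, 1, by ext x; rw [Subsingleton.elim x 1]; simp [Subgroup.one_mem]⟩
    · refine ⟨1, 1, ?_⟩
      have : Subsingleton (Fin (0 + 1)) := inferInstanceAs (Subsingleton (Fin 1))
      ext x
      rw [Subsingleton.elim x 1]
      simp [Subgroup.one_mem]
    · refine ⟨finRotate (m + 2), swap 0 (finRotate (m + 2) 0), ?_⟩
      exact Equiv.Perm.closure_cycle_adjacent_swap (isCycle_finRotate) (support_finRotate) 0
  obtain ⟨a, b, h⟩ := key (Fintype.card α)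
  let e : Perm (Fin (Fintype.card α)) ≃* Perm α := (Fintype.equivFin α).symm.permCongrHom
  refine ⟨e a, e b, ?_⟩
  have := congrArg (Subgroup.map e.toMonoidHom) h
  rw [MonoidHom.map_closure, Set.image_pair] at this
  rw [← MonoidHom.range_eq_map, MonoidHom.range_eq_top.2 e.surjective] at this
  exact this

theorem exists_gen_fix {n : ℕ} (p : Fin (n + 2) → Prop) [DecidablePred p] :
    ∃ a b : Perm (Fin (n + 2)), (∀ π : Perm (Fin (n + 2)), (∀ i, ¬ p i → π i = i) → π ∈ Subgroup.closure {a, b}) ∧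
      (∀ i, ¬ p i → a i = i) ∧ (∀ i, ¬ p i → b i = i) := by
  obtain ⟨a, b, h⟩ := perm_two_gen {i : Fin (n + 2) // p i}
  refine ⟨Perm.ofSubtype a, Perm.ofSubtype b, ?_, fun i hi => Perm.ofSubtype_apply_of_not_mem _ hi,
    fun i hi => Perm.ofSubtype_apply_of_not_mem _ hi⟩
  intro π hπ
  have h1 : ∀ i, p i ↔ p (π i) := by
    intro i
    by_contra hcon
    by_cases hi : p i
    · have h2 : ¬ p (π i) := fun h => hcon ⟨fun _ => h, fun _ => hi⟩
      have h3 := hπ _ h2
      have h4 := π.injective h3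
      rw [h4] at h2
      exact h2 hi
    · rw [hπ i hi] at hcon
      exact hcon Iff.rfl
  have h2 : Perm.ofSubtype (Perm.subtypePerm π fun i => (h1 i).symm) = π := by
    apply Perm.ofSubtype_subtypePerm
    intro i hi
    by_contra h3
    exact hi (hπ i h3)
  rw [← h2]
  have h3 : Perm.subtypePerm π (fun i => (h1 i).symm) ∈ Subgroup.closure {a, b} := by rw [h]; trivial
  have h4 := Subgroup.mem_map_of_mem Perm.ofSubtype h3
  rwa [MonoidHom.map_closure, Set.image_pair] at h4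

/-- commutator word -/
def cw {Q : Type*} [Group Q] (x y : Q) : Q := x * y * x⁻¹ * y⁻¹

theorem cw_eq_one {Q : Type*} [Group Q] {x y : Q} : cw x y = 1 ↔ Commute x y := by
  rw [cw, mul_inv_eq_one, mul_inv_eq_iff_eq_mul]; rfl

theorem map_cw {Q Q' : Type*} [Group Q] [Group Q'] (f : Q →* Q') (x y : Q) : f (cw x y) = cw (f x) (f y) := by
  simp [cw]

namespace Pre

variable {n : ℕ} {F : Type u} [Field F]

section Lists

variable {Q : Type u} [Group Q] {Q' : Type u} [Group Q']

/-- Base relators (16). -/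
noncomputable def base (g : Fin 3 → SpecialLinearGroup (Fin 2) F) (ζ : Fˣ) (A : Pre n F Q) : List Q :=
  [cw (A.L 0 (g 0)) (A.L 1 (g 0)), cw (A.L 0 (g 0)) (A.L 1 (g 1)), cw (A.L 0 (g 0)) (A.L 1 (g 2)),
   cw (A.L 0 (g 1)) (A.L 1 (g 0)), cw (A.L 0 (g 1)) (A.L 1 (g 1)), cw (A.L 0 (g 1)) (A.L 1 (g 2)),
   cw (A.L 0 (g 2)) (A.L 1 (g 0)), cw (A.L 0 (g 2)) (A.L 1 (g 1)), cw (A.L 0 (g 2)) (A.L 1 (g 2)),
   cw (A.S (swap 0 1)) (A.y), cw (A.L 0 (hd ζ) * (A.L 1 (hd ζ))⁻¹) (A.y),
   cw (A.L 0 (tv ve 1)) (A.y), cw (A.L 0 (tv ve (ζ : F))) (A.y),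
   A.y * A.Y 1 1 (gv ((1 : F) • vf)) * (A.L 0 (tv ve (-(1 : F))) * A.Y 1 1 (gv (ve + (1 : F) • vf)))⁻¹,
   A.y * A.Y 1 1 (gv ((ζ : F) • vf)) * (A.L 0 (tv ve (-(ζ : F))) * A.Y 1 1 (gv (ve + (ζ : F) • vf)))⁻¹,
   A.S (swap 0 1) * (A.Y 1 1 (gv vf) * A.Y 1 (gv vf) (gv (-ve)) * A.Y 1 1 (gv vf) * A.L 0 (-1))⁻¹]

/-- Relators for at least three planes (13). -/
noncomputable def ext3 (g : Fin 3 → SpecialLinearGroup (Fin 2) F) (a b c d : Perm (Fin (n + 2))) (j : Fin (n + 2))
    (π π' : Perm (Fin (n + 2))) (A : Pre n F Q) : List Q :=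
  [cw (A.S c) (A.l (g 0)), cw (A.S c) (A.l (g 1)), cw (A.S c) (A.l (g 2)),
   cw (A.S d) (A.l (g 0)), cw (A.S d) (A.l (g 1)), cw (A.S d) (A.l (g 2)),
   cw (A.S a) (A.y), cw (A.S b) (A.y),
   cw (A.L j (g 0)) (A.y), cw (A.L j (g 1)) (A.y), cw (A.L j (g 2)) (A.y),
   cw (A.y) (A.Y π 1 1),
   A.y * A.Y π (gv vf) 1 * A.y⁻¹ * (A.Y π (gv vf) 1 * A.Y π' (gv (-ve)) 1)⁻¹]

/-- Relator for at least four planes (1). -/
noncomputable def ext4 (π : Perm (Fin (n + 2))) (A : Pre n F Q) : List Q := [cw (A.y) (A.Y π 1 1)]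

theorem base_map (g : Fin 3 → SpecialLinearGroup (Fin 2) F) (ζ : Fˣ) (A : Pre n F Q) (f : Q →* Q') :
    (A.map f).base g ζ = (A.base g ζ).map f := by
  simp only [base, List.map_cons, List.map_nil, map_cw, map_mul, map_inv, map_L, map_Y, map_S, map_y]

theorem ext3_map (g : Fin 3 → SpecialLinearGroup (Fin 2) F) (a b c d : Perm (Fin (n + 2))) (j : Fin (n + 2))
    (π π' : Perm (Fin (n + 2))) (A : Pre n F Q) (f : Q →* Q') :
    (A.map f).ext3 g a b c d j π π' = (A.ext3 g a b c d j π π').map f := by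
  simp only [ext3, List.map_cons, List.map_nil, map_cw, map_mul, map_inv, map_L, map_Y, map_S, map_y,
    map_l]

theorem ext4_map (π : Perm (Fin (n + 2))) (A : Pre n F Q) (f : Q →* Q') :
    (A.map f).ext4 π = (A.ext4 π).map f := by
  simp only [ext4, List.map_cons, List.map_nil, map_cw, map_Y, map_y]

end Lists

/-- The free product in which everything takes place. -/
abbrev PP (n : ℕ) (F : Type u) [Field F] : Type u :=
  Monoid.Coprod (Perm (Fin (n + 2))) (Monoid.Coprod (SpecialLinearGroup (Fin 2) F) (FreeGroup (Fin 1)))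

/-- the universal data -/
def uni (n : ℕ) (F : Type u) [Field F] : Pre n F (PP n F) where
  S := Monoid.Coprod.inl
  l := Monoid.Coprod.inr.comp Monoid.Coprod.inl
  y := Monoid.Coprod.inr (Monoid.Coprod.inr (FreeGroup.of 0))

/-- the homomorphism given by data -/
def hom {Q : Type*} [Group Q] (A : Pre n F Q) : PP n F →* Q :=
  Monoid.Coprod.lift A.S (Monoid.Coprod.lift A.l (FreeGroup.lift fun _ => A.y))

theorem uni_map_hom {Q : Type*} [Group Q] (A : Pre n F Q) : (uni n F).map A.hom = A := by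
  obtain ⟨S, l, y⟩ := A
  simp only [Pre.map, hom, uni, Pre.mk.injEq]
  refine ⟨?_, ?_, ?_⟩
  · ext x; simp
  · ext x; simp
  · simp

theorem closure_uni : Subgroup.closure (Set.range (uni n F).S ∪ Set.range (uni n F).l ∪ {(uni n F).y}) = ⊤ := by
  set K := Subgroup.closure (Set.range (uni n F).S ∪ Set.range (uni n F).l ∪ {(uni n F).y}) with hK
  have hS : ∀ π, Monoid.Coprod.inl π ∈ K := fun π => Subgroup.subset_closure (Or.inl (Or.inl ⟨π, rfl⟩))
  have hl : ∀ g, Monoid.Coprod.inr (Monoid.Coprod.inl g) ∈ K := fun g =>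
    Subgroup.subset_closure (Or.inl (Or.inr ⟨g, rfl⟩))
  have hy : Monoid.Coprod.inr (Monoid.Coprod.inr (FreeGroup.of 0)) ∈ K := Subgroup.subset_closure (Or.inr rfl)
  rw [eq_top_iff]
  intro x _
  induction x using Monoid.Coprod.induction_on with
  | inl π => exact hS π
  | inr x =>
    induction x using Monoid.Coprod.induction_on with
    | inl g => exact hl g
    | inr w =>
      have h1 : w ∈ Subgroup.closure (Set.range (FreeGroup.of : Fin 1 → FreeGroup (Fin 1))) := by
        rw [FreeGroup.closure_range_of]; trivial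
      have h2 : Subgroup.closure (Set.range (FreeGroup.of : Fin 1 → FreeGroup (Fin 1))) ≤
          K.comap ((Monoid.Coprod.inr : _ →* PP n F).comp Monoid.Coprod.inr) := by
        rw [Subgroup.closure_le]
        rintro _ ⟨i, rfl⟩
        rw [Subsingleton.elim i 0]
        exact hy
      exact h2 h1
    | mul x y hx hy =>
      rw [map_mul]
      exact K.mul_mem (hx trivial) (hy trivial)
  | mul x y hx hy => exact K.mul_mem (hx trivial) (hy trivial)

theorem quo_of (m : ℕ) (L : ∀ (Q : Type u) [Group Q], Pre n F Q → List Q)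
    (hmap : ∀ (Q Q' : Type u) [Group Q] [Group Q'] (A : Pre n F Q) (f : Q →* Q'), L Q' (A.map f) = (L Q A).map f)
    (hlen : ∀ (Q : Type u) [Group Q] (A : Pre n F Q), (L Q A).length = m)
    (hsys : ∀ (Q : Type u) [Group Q] (A : Pre n F Q), (∀ r ∈ L Q A, r = 1) → ∃ ζ : F, A.Sys2 ζ)
    (hc : ∀ r ∈ L _ (cpre n F), r = 1) : Quo (PP n F) (SpV n F) m := by
  rw [← hlen _ (uni n F)]
  have hf : Function.Surjective (cpre n F).hom := by
    intro x
    have hx : x ∈ KK n F := by rw [KK_eq_top]; trivial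
    induction hx using Subgroup.closure_induction with
    | mem x hx =>
      rcases hx with (⟨π, rfl⟩ | ⟨g, rfl⟩) | rfl
      · exact ⟨Monoid.Coprod.inl π, by simp [hom]⟩
      · exact ⟨Monoid.Coprod.inr (Monoid.Coprod.inl g), by simp [hom]⟩
      · exact ⟨Monoid.Coprod.inr (Monoid.Coprod.inr (FreeGroup.of 0)), by simp [hom]⟩
    | one => exact ⟨1, map_one _⟩
    | mul x y _ _ hx hy =>
      obtain ⟨a, rfl⟩ := hx
      obtain ⟨b, rfl⟩ := hy
      exact ⟨a * b, map_mul _ _ _⟩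
    | inv x _ hx =>
      obtain ⟨a, rfl⟩ := hx
      refine ⟨a⁻¹, eq_inv_of_mul_eq_one_left ?_⟩
      rw [← map_mul]
      exact (congrArg (cpre n F).hom (inv_mul_cancel a)).trans (map_one (cpre n F).hom)
  refine Quo.of_inj (cpre n F).hom hf (L _ (uni n F)) ?_ ?_
  · intro r hr
    apply hc
    have := hmap _ _ (uni n F) (cpre n F).hom
    rw [uni_map_hom] at this
    rw [this]
    exact List.mem_map_of_mem hr
  · intro φ θ hφ hθ hr
    have h1 : ∀ r ∈ L _ ((uni n F).map φ), r = 1 := by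
      rw [hmap]
      intro r hr'
      obtain ⟨s, hs, rfl⟩ := List.mem_map.1 hr'
      exact hr s hs
    obtain ⟨ζ, H⟩ := hsys _ _ h1
    refine H.injective ?_ θ ?_
    · rw [eq_top_iff]
      intro x _
      obtain ⟨p, rfl⟩ := hφ x
      have h2 : p ∈ Subgroup.closure (Set.range (uni n F).S ∪ Set.range (uni n F).l ∪ {(uni n F).y}) := by
        rw [closure_uni]; trivial
      have h3 := Subgroup.mem_map_of_mem φ h2
      rw [MonoidHom.map_closure] at h3
      refine Subgroup.closure_mono ?_ h3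
      rintro _ ⟨z, ((⟨π, rfl⟩ | ⟨g, rfl⟩) | rfl), rfl⟩
      · exact Or.inl (Or.inl ⟨π, rfl⟩)
      · exact Or.inl (Or.inr ⟨g, rfl⟩)
      · exact Or.inr rfl
    · have e : ((uni n F).map φ).map θ = (uni n F).map (cpre n F).hom := by
        have : θ.comp φ = (cpre n F).hom := MonoidHom.ext hθ
        rw [← this]
        rfl
      rw [e, uni_map_hom]

end Pre

end Cfsg.Agent.H111
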