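import Cfsg.Agent.H111.SpAbs

/-!
# Steinberg relations of type `C` from few relators (helper111, cluster S2284-S2297)
-/

set_option autoImplicit false

namespace Cfsg.Agent.H111

open Equiv
open Matrix (SpecialLinearGroup)

namespace Pre

variable {n : ℕ} {F : Type*} [Field F] {Q : Type*} [Group Q]

/-- Second hypotheses. -/
structure Sys2 (A : Pre n F Q) (ζ : F) : Prop extends Sys1 A where
  hζ0 : ζ ≠ 0
  hζ : ∀ a : F, a ≠ 0 → ∃ b : F, b ≠ 0 ∧ (a = b * b * 1 ∨ a = b * b * ζ)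
  add1 : ∀ c, (c = 1 ∨ c = ζ) →
    A.E 0 1 ve ve * A.E 0 1 ve (c • vf) = A.L 0 (tv ve (-c)) * A.E 0 1 ve (ve + c • vf)
  com1 : ∀ j, j ≠ 0 → j ≠ 1 → Commute (A.E 0 1 ve ve) (A.E 0 j ve ve)
  com2 : ∀ j, j ≠ 0 → j ≠ 1 →
    A.E 0 1 ve ve * A.E 0 j vf ve * (A.E 0 1 ve ve)⁻¹ = A.E 0 j vf ve * A.E 1 j (-ve) ve
  com3 : ∀ j k, j ≠ 0 → j ≠ 1 → k ≠ 0 → k ≠ 1 → j ≠ k → Commute (A.E 0 1 ve ve) (A.E j k ve ve)
  sw : A.S (swap 0 1) = A.E 0 1 ve vf * A.E 0 1 vf (-ve) * A.E 0 1 ve vf * A.L 0 (-1)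

namespace Sys1

variable {A : Pre n F Q} (H : A.Sys1)
include H

theorem conj_L_E {i j : Fin (n + 2)} (hij : i ≠ j) (k : Fin (n + 2)) (g : SpecialLinearGroup (Fin 2) F)
    (v w : Fin 2 → F) :
    MulAut.conj (A.L k g) (A.E i j v w) = A.E i j (if k = i then ac g v else v) (if k = j then ac g w else w) := by
  rw [MulAut.conj_apply]
  by_cases h1 : k = i
  · subst h1
    rw [if_pos rfl, if_neg hij, H.E_L_left hij]
  · rw [if_neg h1]
    by_cases h2 : k = j
    · subst h2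
      rw [if_pos rfl, H.E_L_right hij]
    · rw [if_neg h2, (H.E_L_other hij h1 h2 g v w).eq, mul_inv_cancel_right]

theorem conj_S_E {i j : Fin (n + 2)} (hij : i ≠ j) (π : Perm (Fin (n + 2))) (v w : Fin 2 → F) :
    MulAut.conj (A.S π) (A.E i j v w) = A.E (π i) (π j) v w := H.E_S π hij v w

theorem conj_S_L (π : Perm (Fin (n + 2))) (i : Fin (n + 2)) (g : SpecialLinearGroup (Fin 2) F) :
    MulAut.conj (A.S π) (A.L i g) = A.L (π i) g := H.S_L π i g

theorem conj_L_L (k i : Fin (n + 2)) (g h : SpecialLinearGroup (Fin 2) F) :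
    MulAut.conj (A.L k g) (A.L i h) = A.L i (if k = i then g * h * g⁻¹ else h) := by
  rw [MulAut.conj_apply]
  by_cases h1 : k = i
  · subst h1
    rw [if_pos rfl, map_mul, map_mul, map_inv]
  · rw [if_neg h1, (H.L_comm h1 g h).eq, mul_inv_cancel_right]

end Sys1

namespace Sys2

variable {A : Pre n F Q} {ζ : F} (H : A.Sys2 ζ)
include H

/-- `E i j v w` commutes with `T i v s`. -/
theorem comm_T_E {i j : Fin (n + 2)} (hij : i ≠ j) (v w : Fin 2 → F) (s : F) :
    Commute (A.L i (tv v s)) (A.E i j v w) := by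
  have h := H.E_L_left hij (tv v s) v w
  rw [ac_tv_self] at h
  rw [Commute, SemiconjBy]
  calc A.L i (tv v s) * A.E i j v w = (A.L i (tv v s) * A.E i j v w * (A.L i (tv v s))⁻¹) * A.L i (tv v s) := by
        group
    _ = _ := by rw [h]

theorem add_of_ne {i j : Fin (n + 2)} (hij : i ≠ j) (v w w' : Fin 2 → F) (h : dd w w' ≠ 0) :
    A.E i j v w * A.E i j v w' = A.L i (tv v (dd w' w)) * A.E i j v (w + w') := by
  by_cases hv : v = 0
  · subst hv; simp
  obtain ⟨b, hb, hc⟩ := H.hζ _ h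
  obtain ⟨c, hc1, hc2⟩ : ∃ c, (c = 1 ∨ c = ζ) ∧ dd w w' = b * b * c := by
    rcases hc with h | h
    · exact ⟨1, Or.inl rfl, h⟩
    · exact ⟨ζ, Or.inr rfl, h⟩
  have hc0 : c ≠ 0 := by
    rintro rfl
    exact h (by rw [hc2, mul_zero])
  obtain ⟨g, hg1, hg2⟩ := exists_col2 (v := b⁻¹ • w) (w := b⁻¹ • w') hc0 (by
    rw [dd_smul_left, dd_smul_right, hc2]; field_simp)
  obtain ⟨k, hk⟩ := exists_col (v := b • v) (smul_ne_zero hb hv)
  obtain ⟨π, rfl, rfl⟩ := exists_perm2 hij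
  have h01 : (0 : Fin (n + 2)) ≠ 1 := by simp
  have key := congrArg (MulAut.conj (A.S π * A.L 0 k * A.L 1 g)) (H.add1 c hc1)
  rw [map_mul, map_mul, map_mul, map_mul] at key
  simp only [MulAut.mul_apply, H.conj_L_E h01, H.conj_L_L, h01, h01.symm, if_true, if_false, H.conj_S_E h01,
    H.conj_S_L, conj_tv, hk, hg1, hg2, ac_add] at key
  have e1 : ∀ u : Fin 2 → F, A.E (π 0) (π 1) (b • v) (b⁻¹ • u) = A.E (π 0) (π 1) v u := by
    intro u
    rw [H.E_smul hij, smul_smul, mul_inv_cancel₀ hb, one_smul]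
  rw [← smul_add, e1, e1, e1, tv_smul] at key
  rw [key, dd_swap w' w, hc2]
  congr 4
  ring

theorem E_neg {i j : Fin (n + 2)} (hij : i ≠ j) (v u : Fin 2 → F) : A.E i j v u * A.E i j v (-u) = 1 := by
  by_cases hu : u = 0
  · subst hu; simp
  obtain ⟨w', hw'⟩ := exists_dd_ne hu
  set w := -w' with hw
  have hd : dd w u = 1 := by rw [hw, dd_neg_left, dd_swap, hw', neg_neg]
  have h1 := H.add_of_ne hij v (w + u) (-u) (by
    rw [dd_neg_right, dd_add_left, dd_self, add_zero, hd]; simp)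
  have h2 := H.add_of_ne hij v w u (by rw [hd]; simp)
  rw [add_neg_cancel_right, dd_neg_left, dd_add_right, dd_self, add_zero, dd_swap, hd, neg_neg] at h1
  rw [dd_swap, hd] at h2
  have h3 : A.E i j v (w + u) = A.L i (tv v 1) * (A.E i j v w * A.E i j v u) := by
    rw [h2, ← mul_assoc, ← map_mul, ← tv_add]; simp
  rw [h3, mul_assoc] at h1
  have h4 := mul_left_cancel h1
  rw [mul_assoc] at h4
  exact mul_left_cancel (a := A.E i j v w) (by rw [h4, mul_one])

theorem add_of_ne' {i j : Fin (n + 2)} (hij : i ≠ j) (v w w' : Fin 2 → F) (h : dd w w' ≠ 0) :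
    A.E i j v (w + w') = A.L i (tv v (dd w w')) * (A.E i j v w * A.E i j v w') := by
  rw [H.add_of_ne hij v w w' h, ← mul_assoc, ← map_mul, ← tv_add, dd_swap w' w]; simp

/-- **Addition formula**. -/
theorem add {i j : Fin (n + 2)} (hij : i ≠ j) (v w w' : Fin 2 → F) :
    A.E i j v w * A.E i j v w' = A.L i (tv v (dd w' w)) * A.E i j v (w + w') := by
  by_cases hd : dd w w' = 0
  swap
  · exact H.add_of_ne hij v w w' hd
  by_cases hw : w = 0
  · subst hw; simp
  obtain ⟨a, rfl⟩ := eq_smul_of_dd hw hd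
  have hdd : dd (a • w) w = 0 := by rw [dd_smul_left, dd_self, mul_zero]
  rw [hdd, tv_zero_right, map_one, one_mul]
  by_cases ha : a = 0
  · subst ha; simp
  by_cases ha1 : 1 + a = 0
  · have ha2 : a = -1 := by linear_combination ha1
    subst ha2
    rw [neg_smul, one_smul, H.E_neg hij, add_neg_cancel]; simp
  obtain ⟨u, hu⟩ := exists_dd_ne hw
  have hu' : dd u w = -1 := by rw [dd_swap, hu]
  have h1 : A.E i j v w = A.L i (tv v 1) * (A.E i j v (w - u) * A.E i j v u) := by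
    have := H.add_of_ne' hij v (w - u) u (by rw [dd_sub_left, dd_self, hu]; simp)
    rwa [sub_add_cancel, dd_sub_left, dd_self, hu, sub_zero] at this
  have h2 : A.E i j v u * A.E i j v (a • w) = A.L i (tv v a) * A.E i j v (u + a • w) := by
    have := H.add_of_ne hij v u (a • w) (by rw [dd_smul_right, hu']; simpa using ha)
    rwa [dd_smul_left, hu, mul_one] at this
  have h3 : A.E i j v (w - u) * A.E i j v (u + a • w) = A.L i (tv v (-(1 + a))) * A.E i j v (w + a • w) := by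
    have e : dd (w - u) (u + a • w) = 1 + a := by
      rw [dd_sub_left, dd_add_right, dd_add_right, dd_smul_right, dd_smul_right, hu, hu', dd_self, dd_self]
      ring
    have := H.add_of_ne hij v (w - u) (u + a • w) (by rw [e]; exact ha1)
    rw [dd_swap (u + a • w), e] at this
    rw [this]
    congr 2
    abel
  have hc := (H.comm_T_E hij v (w - u) a).eq
  calc A.E i j v w * A.E i j v (a • w)
      = A.L i (tv v 1) * A.E i j v (w - u) * (A.E i j v u * A.E i j v (a • w)) := by rw [h1]; group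
    _ = A.L i (tv v 1) * (A.E i j v (w - u) * A.L i (tv v a)) * A.E i j v (u + a • w) := by rw [h2]; group
    _ = A.L i (tv v 1) * A.L i (tv v a) * (A.E i j v (w - u) * A.E i j v (u + a • w)) := by rw [← hc]; group
    _ = (A.L i (tv v 1) * A.L i (tv v a) * A.L i (tv v (-(1 + a)))) * A.E i j v (w + a • w) := by rw [h3]; group
    _ = _ := by
      rw [← map_mul, ← map_mul, ← tv_add, ← tv_add]
      simp

theorem E_inv {i j : Fin (n + 2)} (hij : i ≠ j) (v w : Fin 2 → F) : (A.E i j v w)⁻¹ = A.E i j v (-w) := by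
  rw [inv_eq_iff_mul_eq_one, H.E_neg hij]

/-- additivity on a line -/
theorem add_line {i j : Fin (n + 2)} (hij : i ≠ j) (v w : Fin 2 → F) (a b : F) :
    A.E i j v (a • w) * A.E i j v (b • w) = A.E i j v ((a + b) • w) := by
  rw [H.add hij, dd_smul_left, dd_smul_right, dd_self, mul_zero, mul_zero, tv_zero_right, map_one, one_mul, add_smul]

/-- **The commutator formula for three planes.** -/
theorem comm3 {i j k : Fin (n + 2)} (hij : i ≠ j) (hik : i ≠ k) (hjk : j ≠ k) (v v' w w' : Fin 2 → F) :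
    A.E i j v w * A.E i k v' w' * (A.E i j v w)⁻¹ = A.E i k v' w' * A.E j k (dd v' v • w) w' := by
  by_cases hv : v = 0
  · subst hv; simp
  by_cases hw : w = 0
  · subst hw; simp
  by_cases hv' : v' = 0
  · subst hv'; simp
  by_cases hw' : w' = 0
  · subst hw'; simp
  have h01 : (0 : Fin (n + 2)) ≠ 1 := by simp
  obtain ⟨π, rfl, rfl⟩ := exists_perm2 hij
  obtain ⟨k, rfl⟩ : ∃ k', k = π k' := ⟨π⁻¹ k, by simp⟩
  rw [Ne, π.injective.eq_iff] at hik hjk
  have hk0 : k ≠ 0 := fun e => hik e.symm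
  have hk1 : k ≠ 1 := fun e => hjk e.symm
  by_cases hd : dd v v' = 0
  · obtain ⟨a, rfl⟩ := eq_smul_of_dd hv hd
    have ha : a ≠ 0 := by rintro rfl; exact hv' (by simp)
    obtain ⟨g, hg⟩ := exists_col hv
    obtain ⟨h, hh⟩ := exists_col hw
    obtain ⟨h', hh'⟩ := exists_col (v := a • w') (smul_ne_zero ha hw')
    have key := congrArg (MulAut.conj (A.S π * A.L 0 g * A.L 1 h * A.L k h')) (H.com1 k hk0 hk1).eq
    rw [map_mul, map_mul, map_mul, map_mul, map_mul] at key
    simp only [MulAut.mul_apply, H.conj_L_E h01, H.conj_L_E hk0.symm, h01, h01.symm, if_true, if_false, H.conj_S_E h01,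
      H.conj_S_E hk0.symm, hg, hh, hh', hk0, hk1, hk0.symm, hk1.symm] at key
    have hπ : π 0 ≠ π k := by rw [Ne, π.injective.eq_iff]; exact hk0.symm
    rw [H.E_smul hπ, key, mul_inv_cancel_right, dd_smul_left, dd_self]
    simp
  · set c := dd v' v with hc
    have hc0 : c ≠ 0 := by rw [hc, dd_swap]; simpa using hd
    obtain ⟨g, hg1, hg2⟩ := exists_col2 (v := v) (w := (-c⁻¹) • v') one_ne_zero (by
      rw [dd_smul_right, dd_swap v v', ← hc]; field_simp)
    rw [one_smul] at hg2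
    obtain ⟨h, hh⟩ := exists_col hw
    obtain ⟨h', hh'⟩ := exists_col (v := (-c) • w') (smul_ne_zero (neg_ne_zero.2 hc0) hw')
    have key := congrArg (MulAut.conj (A.S π * A.L 0 g * A.L 1 h * A.L k h')) (H.com2 k hk0 hk1)
    rw [map_mul, map_mul, map_mul, map_mul, map_mul, map_mul, map_inv] at key
    simp only [MulAut.mul_apply, H.conj_L_E h01, H.conj_L_E hk0.symm, H.conj_L_E hk1.symm, h01, h01.symm, if_true,
      if_false, H.conj_S_E h01, H.conj_S_E hk0.symm, H.conj_S_E hk1.symm, hg1, hg2, hh, hh', hk0, hk1, hk0.symm,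
      hk1.symm, ac_neg] at key
    have hπ : π 0 ≠ π k := by rw [Ne, π.injective.eq_iff]; exact hk0.symm
    have hπ1 : π 1 ≠ π k := by rw [Ne, π.injective.eq_iff]; exact hk1.symm
    have e1 : A.E (π 0) (π k) (-c⁻¹ • v') (-c • w') = A.E (π 0) (π k) v' w' := by
      rw [H.E_smul hπ, smul_smul]
      congr 1
      rw [neg_mul_neg, inv_mul_cancel₀ hc0, one_smul]
    have e2 : A.E (π 1) (π k) (-w) (-c • w') = A.E (π 1) (π k) (c • w) w' := by
      rw [← H.E_smul hπ1, smul_neg, neg_smul, neg_neg]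
    rw [e1, e2] at key
    exact key

/-- **Disjoint planes.** -/
theorem comm4 {i j k l : Fin (n + 2)} (hij : i ≠ j) (hik : i ≠ k) (hjk : j ≠ k) (hil : i ≠ l) (hjl : j ≠ l)
    (hkl : k ≠ l) (v v' w w' : Fin 2 → F) : Commute (A.E i j v w) (A.E k l v' w') := by
  by_cases hv : v = 0
  · subst hv; simp
  by_cases hw : w = 0
  · subst hw; simp
  by_cases hv' : v' = 0
  · subst hv'; simp
  by_cases hw' : w' = 0
  · subst hw'; simp
  have h01 : (0 : Fin (n + 2)) ≠ 1 := by simp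
  obtain ⟨π, rfl, rfl⟩ := exists_perm2 hij
  obtain ⟨k, rfl⟩ : ∃ k', k = π k' := ⟨π⁻¹ k, by simp⟩
  obtain ⟨l, rfl⟩ : ∃ k', l = π k' := ⟨π⁻¹ l, by simp⟩
  rw [Ne, π.injective.eq_iff] at hik hjk hil hjl hkl
  have hk0 : k ≠ 0 := fun e => hik e.symm
  have hk1 : k ≠ 1 := fun e => hjk e.symm
  have hl0 : l ≠ 0 := fun e => hil e.symm
  have hl1 : l ≠ 1 := fun e => hjl e.symm
  obtain ⟨g, hg⟩ := exists_col hv
  obtain ⟨h, hh⟩ := exists_col hw
  obtain ⟨g', hg'⟩ := exists_col hv'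
  obtain ⟨h', hh'⟩ := exists_col hw'
  have key := congrArg (MulAut.conj (A.S π * A.L 0 g * A.L 1 h * A.L k g' * A.L l h'))
    (H.com3 k l hk0 hk1 hl0 hl1 hkl).eq
  rw [map_mul, map_mul, map_mul, map_mul, map_mul, map_mul] at key
  simp only [MulAut.mul_apply, H.conj_L_E h01, H.conj_L_E hkl, h01, h01.symm, if_true, if_false, H.conj_S_E h01,
    H.conj_S_E hkl, hg, hh, hg', hh', hk0, hk1, hk0.symm, hk1.symm, hl0, hl1, hl0.symm, hl1.symm, hkl, Ne.symm hkl]
    at key
  exact key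

/-- The transposition. -/
theorem S_swap {i j : Fin (n + 2)} (hij : i ≠ j) :
    A.S (swap i j) = A.E i j ve vf * A.E i j vf (-ve) * A.E i j ve vf * A.L i (-1) := by
  obtain ⟨π, rfl, rfl⟩ := exists_perm2 hij
  have h01 : (0 : Fin (n + 2)) ≠ 1 := by simp
  have key := congrArg (MulAut.conj (A.S π)) H.sw
  rw [map_mul, map_mul, map_mul] at key
  simp only [H.conj_S_E h01, H.conj_S_L] at key
  rw [← key, MulAut.conj_apply, ← map_mul, ← map_inv, ← map_mul]
  congr 1
  rw [Equiv.swap_apply_apply]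

end Sys2

end Pre

end Cfsg.Agent.H111
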