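import Cfsg.Agent.H111.SpRel
import Cfsg.Agent.H111.Inj

/-!
# The root datum of type `C` in `Q` (helper111, cluster S2284-S2297)
-/

set_option autoImplicit false

namespace Cfsg.Agent.H111

open Equiv
open Matrix (SpecialLinearGroup)
open Cfsg.Agent.ChevalleyStructure.SteinbergBruhat

/-- Signed indices. -/
abbrev Sg (n : ℕ) : Type := Fin (n + 2) × Bool

/-- negation of a signed index -/
def ng {n : ℕ} (a : Sg n) : Sg n := (a.1, !a.2)

@[simp] theorem ng_ng {n : ℕ} (a : Sg n) : ng (ng a) = a := by simp [ng]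
@[simp] theorem ng_fst {n : ℕ} (a : Sg n) : (ng a).1 = a.1 := rfl
@[simp] theorem ng_mk {n : ℕ} (i : Fin (n + 2)) (s : Bool) : ng ((i, s) : Sg n) = (i, !s) := rfl

theorem ng_ne {n : ℕ} (a : Sg n) : ng a ≠ a := by
  intro h
  have := congrArg Prod.snd h
  simp [ng] at this

theorem eq_or_ng {n : ℕ} {a b : Sg n} (h : a.1 = b.1) : b = a ∨ b = ng a := by
  obtain ⟨i, s⟩ := a
  obtain ⟨j, t⟩ := b
  simp only at h
  subst h
  cases s <;> cases t <;> simp [ng]

/-- heights of signed indices -/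
def hs {n : ℕ} (a : Sg n) : ℤ := if a.2 then (n + 2 - a.1.val : ℤ) else -(n + 2 - a.1.val : ℤ)

theorem hs_ng {n : ℕ} (a : Sg n) : hs (ng a) = - hs a := by
  obtain ⟨i, s⟩ := a
  cases s <;> simp [hs, ng]

theorem hs_true {n : ℕ} (i : Fin (n + 2)) : hs ((i, true) : Sg n) = n + 2 - i.val := rfl
theorem hs_false {n : ℕ} (i : Fin (n + 2)) : hs ((i, false) : Sg n) = -(n + 2 - i.val) := rfl

theorem hs_ne {n : ℕ} (a : Sg n) : hs a ≠ 0 := by
  obtain ⟨⟨i, hi⟩, s⟩ := a
  cases s
  · rw [hs_false]; simp only; omega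
  · rw [hs_true]; simp only; omega

theorem hs_inj {n : ℕ} {a b : Sg n} (h : hs a = hs b) : a = b := by
  obtain ⟨⟨i, hi⟩, s⟩ := a
  obtain ⟨⟨j, hj⟩, t⟩ := b
  cases s <;> cases t <;> simp only [hs_false, hs_true] at h
  · have : i = j := by omega
    subst this; rfl
  · omega
  · omega
  · have : i = j := by omega
    subst this; rfl

theorem hs_add_ne {n : ℕ} {a b : Sg n} (h : b ≠ ng a) : hs a + hs b ≠ 0 := by
  intro e
  apply h
  apply hs_inj
  rw [hs_ng]; omega

/-- the basis vector -/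
def bs {F : Type*} [Field F] (s : Bool) : Fin 2 → F := if s then ve else vf

@[simp] theorem bs_true {F : Type*} [Field F] : (bs true : Fin 2 → F) = ve := rfl
@[simp] theorem bs_false {F : Type*} [Field F] : (bs false : Fin 2 → F) = vf := rfl

/-- The roots. -/
def Root (n : ℕ) : Type := {r : Sym2 (Sg n) // r.map ng ≠ r}

instance finite_Root_H111 (n : ℕ) : Finite (Root n) := by unfold Root; infer_instance

theorem isRoot_iff {n : ℕ} {a b : Sg n} : (s(a, b) : Sym2 (Sg n)).map ng ≠ s(a, b) ↔ b ≠ ng a := by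
  rw [Sym2.map_mk, Ne, Sym2.eq_iff, not_or, not_and, not_and]
  constructor
  · rintro ⟨_, h2⟩ rfl
    exact h2 rfl (ng_ng a)
  · intro h
    exact ⟨fun h1 => absurd h1 (ng_ne a), fun h1 => absurd h1.symm h⟩

/-- The root `{a, b}`. -/
def mkR {n : ℕ} (a b : Sg n) (h : b ≠ ng a) : Root n := ⟨s(a, b), isRoot_iff.2 h⟩

theorem Root.ind {n : ℕ} {P : Root n → Prop} (h : ∀ a b h, P (mkR a b h)) (r : Root n) : P r := by
  obtain ⟨r, hr⟩ := r
  induction r using Sym2.ind with
  | _ a b => exact h a b (isRoot_iff.1 hr)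

theorem mkR_eq {n : ℕ} {a b c d : Sg n} {h : b ≠ ng a} {h' : d ≠ ng c} :
    mkR a b h = mkR c d h' ↔ (a = c ∧ b = d) ∨ (a = d ∧ b = c) :=
  Subtype.ext_iff.trans Sym2.eq_iff

/-- height of a root -/
def Root.ht {n : ℕ} (r : Root n) : ℤ := Sym2.lift ⟨fun a b => hs a + hs b, fun a b => add_comm _ _⟩ r.1

@[simp] theorem ht_mkR {n : ℕ} (a b : Sg n) (h : b ≠ ng a) : (mkR a b h).ht = hs a + hs b := rfl

/-- image of a root -/
def Root.im {n : ℕ} (f : Sg n → Sg n) (hf : Function.Injective f) (hf' : ∀ a, f (ng a) = ng (f a)) (r : Root n) :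
    Root n :=
  ⟨r.1.map f, by
    revert r
    refine Root.ind fun a b h => ?_
    change ((s(a, b) : Sym2 (Sg n)).map f).map ng ≠ (s(a, b) : Sym2 (Sg n)).map f
    rw [Sym2.map_mk, isRoot_iff, ← hf', Ne, hf.eq_iff]
    exact h⟩

theorem im_mkR {n : ℕ} (f : Sg n → Sg n) (hf : Function.Injective f) (hf' : ∀ a, f (ng a) = ng (f a)) (a b : Sg n)
    (h : b ≠ ng a) : (mkR a b h).im f hf hf' = mkR (f a) (f b) (by rw [← hf', Ne, hf.eq_iff]; exact h) := rfl

/-- The index set of simple roots: `inl i` for `e_i - e_{i+1}`, `inr ()` for `2 e_{n+1}`. -/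
abbrev Sim (n : ℕ) : Type := Fin (n + 1) ⊕ Unit

/-- simple reflections on signed indices -/
def rho {n : ℕ} : Sim n → Sg n → Sg n
  | Sum.inl i => fun a => (swap i.castSucc i.succ a.1, a.2)
  | Sum.inr _ => fun a => if a.1 = Fin.last (n + 1) then ng a else a

@[simp] theorem rho_inl {n : ℕ} (i : Fin (n + 1)) (a : Sg n) :
    rho (Sum.inl i) a = (swap i.castSucc i.succ a.1, a.2) := rfl
@[simp] theorem rho_inr {n : ℕ} (u : Unit) (a : Sg n) :
    rho (Sum.inr u) a = if a.1 = Fin.last (n + 1) then ng a else a := rfl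

theorem rho_rho {n : ℕ} (i : Sim n) (a : Sg n) : rho i (rho i a) = a := by
  rcases i with i | u
  · simp
  · simp only [rho_inr]
    by_cases h : a.1 = Fin.last (n + 1) <;> simp [h]

theorem rho_inj {n : ℕ} (i : Sim n) : Function.Injective (rho i) := by
  intro a b h
  rw [← rho_rho i a, h, rho_rho]

theorem rho_ng {n : ℕ} (i : Sim n) (a : Sg n) : rho i (ng a) = ng (rho i a) := by
  rcases i with i | u
  · simp [ng]
  · simp only [rho_inr, ng_fst]
    by_cases h : a.1 = Fin.last (n + 1) <;> simp [h]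

theorem ng_inj {n : ℕ} : Function.Injective (ng : Sg n → Sg n) := by
  intro a b h
  rw [← ng_ng a, h, ng_ng]

/-- The negative of a root. -/
def Root.neg {n : ℕ} (r : Root n) : Root n := r.im ng ng_inj fun _ => rfl

/-- Simple reflections. -/
def Root.refl {n : ℕ} (i : Sim n) (r : Root n) : Root n := r.im (rho i) (rho_inj i) (rho_ng i)

/-- Simple roots. -/
def simR {n : ℕ} : Sim n → Root n
  | Sum.inl i => mkR (i.castSucc, true) (i.succ, false) (by
      intro h
      have := congrArg (fun a : Sg n => a.1.val) h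
      simp [ng] at this)
  | Sum.inr _ => mkR (Fin.last (n + 1), true) (Fin.last (n + 1), true) (ng_ne _).symm

theorem simR_inl {n : ℕ} (i : Fin (n + 1)) (h) :
    simR (Sum.inl i : Sim n) = mkR (i.castSucc, true) (i.succ, false) h := rfl
theorem simR_inr {n : ℕ} (u : Unit) (h) :
    simR (Sum.inr u : Sim n) = mkR (Fin.last (n + 1), true) (Fin.last (n + 1), true) h := rfl

theorem Root.ht_ne {n : ℕ} (r : Root n) : r.ht ≠ 0 := by
  revert r
  exact Root.ind fun a b h => hs_add_ne h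

theorem Root.ht_neg {n : ℕ} (r : Root n) : r.neg.ht = - r.ht := by
  revert r
  refine Root.ind fun a b h => ?_
  rw [Root.neg, im_mkR, ht_mkR, ht_mkR, hs_ng, hs_ng]
  ring

theorem Root.refl_refl {n : ℕ} (i : Sim n) (r : Root n) : (r.refl i).refl i = r := by
  revert r
  refine Root.ind fun a b h => ?_
  rw [Root.refl, Root.refl, im_mkR, im_mkR, mkR_eq, rho_rho, rho_rho]
  exact Or.inl ⟨rfl, rfl⟩

theorem Root.refl_neg {n : ℕ} (i : Sim n) (r : Root n) : r.neg.refl i = (r.refl i).neg := by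
  revert r
  refine Root.ind fun a b h => ?_
  rw [Root.refl, Root.refl, Root.neg, Root.neg, im_mkR, im_mkR, im_mkR, im_mkR, mkR_eq, rho_ng, rho_ng]
  exact Or.inl ⟨rfl, rfl⟩

theorem refl_simR {n : ℕ} (i : Sim n) : (simR i).refl i = (simR i).neg := by
  rcases i with i | u
  · have h : ((i.succ, false) : Sg n) ≠ ng (i.castSucc, true) := by
      intro h
      have := congrArg (fun a : Sg n => a.1.val) h
      simp [ng] at this
    rw [simR_inl i h, Root.refl, Root.neg, im_mkR, im_mkR, mkR_eq]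
    simp
  · rw [simR_inr u (ng_ne _).symm, Root.refl, Root.neg, im_mkR, im_mkR, mkR_eq]
    simp

theorem ht_simR {n : ℕ} (i : Sim n) : 0 < (simR i).ht := by
  rcases i with i | u
  · have h : ((i.succ, false) : Sg n) ≠ ng (i.castSucc, true) := by
      intro h
      have := congrArg (fun a : Sg n => a.1.val) h
      simp [ng] at this
    rw [simR_inl i h, ht_mkR, hs_true, hs_false]
    simp only [Fin.val_castSucc, Fin.val_succ]
    push_cast
    omega
  · rw [simR_inr u (ng_ne _).symm, ht_mkR, hs_true]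
    simp only [Fin.val_last]
    push_cast
    omega

theorem val_swap {n : ℕ} (i : Fin (n + 1)) (j : Fin (n + 2)) :
    (j = i.castSucc ∧ swap i.castSucc i.succ j = i.succ) ∨ (j = i.succ ∧ swap i.castSucc i.succ j = i.castSucc) ∨
      (j ≠ i.castSucc ∧ j ≠ i.succ ∧ swap i.castSucc i.succ j = j) := by
  by_cases h1 : j = i.castSucc
  · left; subst h1; exact ⟨rfl, swap_apply_left _ _⟩
  · by_cases h2 : j = i.succ
    · right; left; subst h2; exact ⟨rfl, swap_apply_right _ _⟩
    · right; right; exact ⟨h1, h2, swap_apply_of_ne_of_ne h1 h2⟩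

theorem refl_pos_inl {n : ℕ} (i : Fin (n + 1)) (a b : Sg n) (h : b ≠ ng a) (hp : 0 < hs a + hs b)
    (hne : ¬ ((a = (i.castSucc, true) ∧ b = (i.succ, false)) ∨ (a = (i.succ, false) ∧ b = (i.castSucc, true)))) :
    0 < hs (rho (Sum.inl i) a) + hs (rho (Sum.inl i) b) := by
  obtain ⟨ja, sa⟩ := a
  obtain ⟨jb, sb⟩ := b
  have hva := ja.isLt
  have hvb := jb.isLt
  have hvi := i.isLt
  simp only [rho_inl]
  simp only [ng_mk, Ne, Prod.mk.injEq, not_and] at h hne
  have e1 : ∀ j : Fin (n + 2), j = i.castSucc ↔ j.val = i.val := fun j => by rw [Fin.ext_iff]; rfl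
  have e2 : ∀ j : Fin (n + 2), j = i.succ ↔ j.val = i.val + 1 := fun j => by rw [Fin.ext_iff]; rfl
  rcases val_swap i ja with ⟨h1, h2⟩ | ⟨h1, h2⟩ | ⟨h1, h1', h2⟩ <;>
  rcases val_swap i jb with ⟨h3, h4⟩ | ⟨h3, h4⟩ | ⟨h3, h3', h4⟩ <;>
  rw [h2, h4] <;>
  cases sa <;> cases sb <;>
  simp only [hs_true, hs_false, Fin.val_castSucc, Fin.val_succ, Nat.cast_add, Nat.cast_one, e1, e2, Fin.ext_iff,
    reduceCtorEq, and_true, and_false, Bool.not_true, Bool.not_false, not_true_eq_false, not_false_eq_true, imp_false,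
    or_false, false_or, Nat.cast_inj] at * <;>
  omega

theorem Root.refl_pos {n : ℕ} (i : Sim n) (r : Root n) (hr : 0 < r.ht) (hne : r ≠ simR i) : 0 < (r.refl i).ht := by
  revert r
  refine Root.ind fun a b h => ?_
  intro hr hne
  rw [ht_mkR] at hr
  rw [Root.refl, im_mkR, ht_mkR]
  rcases i with i | u
  · have h0 : ((i.succ, false) : Sg n) ≠ ng (i.castSucc, true) := by
      intro h
      have := congrArg (fun a : Sg n => a.1.val) h
      simp [ng] at this
    rw [simR_inl i h0, Ne, mkR_eq] at hne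
    exact refl_pos_inl i a b h hr hne
  · rw [simR_inr u (ng_ne _).symm, Ne, mkR_eq] at hne
    obtain ⟨ja, sa⟩ := a
    obtain ⟨jb, sb⟩ := b
    have hva := ja.isLt
    have hvb := jb.isLt
    simp only [rho_inr]
    simp only [ng_mk, Ne, Prod.mk.injEq, not_and] at h hne
    by_cases h1 : ja = Fin.last (n + 1) <;> by_cases h2 : jb = Fin.last (n + 1) <;>
      simp only [h1, h2, if_true, if_false, ng_mk] <;>
      rw [Fin.ext_iff] at h1 h2 <;>
      cases sa <;> cases sb <;>
      simp only [Bool.not_true, Bool.not_false, hs_true, hs_false, Fin.val_last, Fin.ext_iff, true_and,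
        and_true, and_false, reduceCtorEq, not_true_eq_false, not_false_eq_true, Nat.cast_add, Nat.cast_one] at * <;>
      omega

end Cfsg.Agent.H111
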