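import Cfsg.Agent.H111.SpRel

/-!
# From relators to the systems `Sys1`, `Sys2` (helper111, cluster S2284-S2297)
-/

set_option autoImplicit false

namespace Cfsg.Agent.H111

open Equiv
open Matrix (SpecialLinearGroup)

theorem exists_perm_fix1 {n : ℕ} {j j' : Fin (n + 2)} (h0 : j ≠ 0) (h1 : j ≠ 1) (h0' : j' ≠ 0) (h1' : j' ≠ 1) :
    ∃ σ : Perm (Fin (n + 2)), σ 0 = 0 ∧ σ 1 = 1 ∧ σ j' = j :=
  ⟨swap j' j, swap_apply_of_ne_of_ne h0'.symm h0.symm, swap_apply_of_ne_of_ne h1'.symm h1.symm, swap_apply_left _ _⟩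

theorem exists_perm_fix2 {n : ℕ} {j j' k k' : Fin (n + 2)} (h0 : j ≠ 0) (h1 : j ≠ 1) (h0' : j' ≠ 0) (h1' : j' ≠ 1)
    (k0 : k ≠ 0) (k1 : k ≠ 1) (k0' : k' ≠ 0) (k1' : k' ≠ 1) (hjk : j ≠ k) (hjk' : j' ≠ k') :
    ∃ σ : Perm (Fin (n + 2)), σ 0 = 0 ∧ σ 1 = 1 ∧ σ j' = j ∧ σ k' = k := by
  obtain ⟨σ, s0, s1, sj⟩ := exists_perm_fix1 h0 h1 h0' h1'
  have e0 : σ k' ≠ 0 := fun e => k0' (σ.injective (e.trans s0.symm))
  have e1 : σ k' ≠ 1 := fun e => k1' (σ.injective (e.trans s1.symm))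
  have ej : σ k' ≠ j := fun e => hjk' (σ.injective (e.trans sj.symm)).symm
  refine ⟨swap (σ k') k * σ, ?_, ?_, ?_, ?_⟩
  · rw [Perm.mul_apply, s0, swap_apply_of_ne_of_ne e0.symm k0.symm]
  · rw [Perm.mul_apply, s1, swap_apply_of_ne_of_ne e1.symm k1.symm]
  · rw [Perm.mul_apply, sj, swap_apply_of_ne_of_ne ej.symm hjk]
  · rw [Perm.mul_apply, swap_apply_left]

/-- commuting with the generators -/
theorem commute_of_closure {G Q : Type*} [Group G] [Group Q] (f : G →* Q) (y : Q) {s : Set G}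
    (hs : ∀ x ∈ s, Commute (f x) y) {g : G} (hg : g ∈ Subgroup.closure s) : Commute (f g) y := by
  induction hg using Subgroup.closure_induction with
  | mem x hx => exact hs x hx
  | one => rw [map_one]; exact Commute.one_left _
  | mul x y _ _ hx hy => rw [map_mul]; exact hx.mul_left hy
  | inv x _ hx => rw [map_inv]; exact hx.inv_left

namespace Pre

variable {n : ℕ} {F : Type*} [Field F] {Q : Type*} [Group Q]

/-- The relations corresponding to the relators. -/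
structure Rels (A : Pre n F Q) (g : Fin 3 → SpecialLinearGroup (Fin 2) F) (a b c d : Perm (Fin (n + 2)))
    (ζ : Fˣ) : Prop where
  gen : Subgroup.closure (Set.range g) = ⊤
  gen2 : ∀ π : Perm (Fin (n + 2)), π 0 = 0 → π 1 = 1 → π ∈ Subgroup.closure {a, b}
  gen1 : ∀ π : Perm (Fin (n + 2)), π 0 = 0 → π ∈ Subgroup.closure {c, d}
  genζ : ∀ u : Fˣ, u ∈ Subgroup.zpowers ζ
  ra : ∀ i, Commute (A.S c) (A.l (g i)) ∧ Commute (A.S d) (A.l (g i))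
  rb : ∀ i j, Commute (A.L 0 (g i)) (A.L 1 (g j))
  rc1 : Commute (A.S a) A.y ∧ Commute (A.S b) A.y
  rc2 : Commute (A.S (swap 0 1)) A.y
  rc3 : ∀ j : Fin (n + 2), j ≠ 0 → j ≠ 1 → ∃ j' : Fin (n + 2), j' ≠ 0 ∧ j' ≠ 1 ∧ ∀ i, Commute (A.L j' (g i)) A.y
  rc4 : Commute (A.L 0 (hd ζ) * (A.L 1 (hd ζ))⁻¹) A.y
  rc5 : Commute (A.L 0 (tv ve 1)) A.y ∧ Commute (A.L 0 (tv ve (ζ : F))) A.y
  rc7 : A.y * A.Y 1 1 (gv ((1 : F) • vf)) = A.L 0 (tv ve (-(1 : F))) * A.Y 1 1 (gv (ve + (1 : F) • vf)) ∧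
    A.y * A.Y 1 1 (gv ((ζ : F) • vf)) = A.L 0 (tv ve (-(ζ : F))) * A.Y 1 1 (gv (ve + (ζ : F) • vf))
  rc8 : ∀ j : Fin (n + 2), j ≠ 0 → j ≠ 1 →
    ∃ π : Perm (Fin (n + 2)), π 0 = 0 ∧ π 1 ≠ 0 ∧ π 1 ≠ 1 ∧ Commute A.y (A.Y π 1 1)
  rc9 : ∀ j : Fin (n + 2), j ≠ 0 → j ≠ 1 →
    ∃ π π' : Perm (Fin (n + 2)), π 0 = 0 ∧ π 1 ≠ 0 ∧ π 1 ≠ 1 ∧ π' 0 = 1 ∧ π' 1 = π 1 ∧
      A.y * A.Y π (gv vf) 1 * A.y⁻¹ = A.Y π (gv vf) 1 * A.Y π' (gv (-ve)) 1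
  rc10 : ∀ j k : Fin (n + 2), j ≠ 0 → j ≠ 1 → k ≠ 0 → k ≠ 1 → j ≠ k →
    ∃ π : Perm (Fin (n + 2)), π 0 ≠ 0 ∧ π 0 ≠ 1 ∧ π 1 ≠ 0 ∧ π 1 ≠ 1 ∧ Commute A.y (A.Y π 1 1)
  rc12 : A.S (swap 0 1) = A.Y 1 1 (gv vf) * A.Y 1 (gv vf) (gv (-ve)) * A.Y 1 1 (gv vf) * A.L 0 (-1)

theorem square_class {ζ : Fˣ} (h : ∀ u : Fˣ, u ∈ Subgroup.zpowers ζ) (a : F) (ha : a ≠ 0) :
    ∃ b : F, b ≠ 0 ∧ (a = b * b * 1 ∨ a = b * b * (ζ : F)) := by
  obtain ⟨k, hk⟩ := Subgroup.mem_zpowers_iff.1 (h (Units.mk0 a ha))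
  have ha' : a = ((ζ ^ k : Fˣ) : F) := by rw [hk, Units.val_mk0]
  rcases Int.even_or_odd' k with ⟨m, hm | hm⟩
  · refine ⟨((ζ ^ m : Fˣ) : F), Units.ne_zero _, Or.inl ?_⟩
    rw [ha', hm, mul_one, ← Units.val_mul, ← zpow_add, two_mul]
  · refine ⟨((ζ ^ m : Fˣ) : F), Units.ne_zero _, Or.inr ?_⟩
    rw [ha', hm, ← Units.val_mul, ← zpow_add, ← Units.val_mul, ← zpow_add_one, two_mul]

namespace Rels

variable {A : Pre n F Q} {g : Fin 3 → SpecialLinearGroup (Fin 2) F} {a b c d : Perm (Fin (n + 2))} {ζ : Fˣ}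
  (R : A.Rels g a b c d ζ)
include R

theorem mem_gen (x : SpecialLinearGroup (Fin 2) F) : x ∈ Subgroup.closure (Set.range g) := by
  rw [R.gen]; trivial

theorem comS (π : Perm (Fin (n + 2))) (hπ : π 0 = 0) (x : SpecialLinearGroup (Fin 2) F) :
    Commute (A.S π) (A.l x) := by
  refine commute_of_closure A.S (A.l x) ?_ (R.gen1 π hπ)
  have h : ∀ s : Perm (Fin (n + 2)), (∀ i, Commute (A.S s) (A.l (g i))) → Commute (A.S s) (A.l x) := by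
    intro s hs
    refine (commute_of_closure A.l (A.S s) ?_ (R.mem_gen x)).symm
    rintro _ ⟨i, rfl⟩
    exact (hs i).symm
  rintro s (rfl | rfl)
  · exact h _ fun i => (R.ra i).1
  · exact h _ fun i => (R.ra i).2

theorem comL (x y : SpecialLinearGroup (Fin 2) F) : Commute (A.L 0 x) (A.L 1 y) := by
  refine commute_of_closure (A.L 0) (A.L 1 y) ?_ (R.mem_gen x)
  rintro _ ⟨i, rfl⟩
  refine (commute_of_closure (A.L 1) _ ?_ (R.mem_gen y)).symm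
  rintro _ ⟨j, rfl⟩
  exact (R.rb i j).symm

theorem S_L (π : Perm (Fin (n + 2))) (i : Fin (n + 2)) (g : SpecialLinearGroup (Fin 2) F) :
    A.S π * A.L i g * (A.S π)⁻¹ = A.L (π i) g := by
  have h1 : (swap 0 (π i) * (π * swap 0 i) : Perm (Fin (n + 2))) 0 = 0 := by
    rw [Perm.mul_apply, Perm.mul_apply, swap_apply_left, swap_apply_right]
  have h2 := R.comS _ h1 g
  have h3 : A.S π * A.S (swap 0 i) = A.S (swap 0 (π i)) * A.S (swap 0 (π i) * (π * swap 0 i)) := by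
    rw [← map_mul, ← map_mul, ← mul_assoc (swap 0 (π i)), swap_mul_self, one_mul]
  rw [L_apply, L_apply]
  have e : A.S π * (A.S (swap 0 i) * A.l g * (A.S (swap 0 i))⁻¹) * (A.S π)⁻¹ =
      (A.S π * A.S (swap 0 i)) * A.l g * (A.S π * A.S (swap 0 i))⁻¹ := by group
  rw [e, h3]
  exact conj_mul_commute h2

theorem yS (π : Perm (Fin (n + 2))) (h0 : π 0 = 0) (h1 : π 1 = 1) : Commute (A.S π) A.y := by
  refine commute_of_closure A.S A.y ?_ (R.gen2 π h0 h1)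
  rintro s (rfl | rfl)
  · exact R.rc1.1
  · exact R.rc1.2

theorem conj_y {x : Q} (h : Commute x A.y) : x * A.y * x⁻¹ = A.y := by rw [h.eq, mul_inv_cancel_right]

theorem yh (u : Fˣ) : Commute (A.L 0 (hd u) * (A.L 1 (hd u))⁻¹) A.y := by
  obtain ⟨k, rfl⟩ := Subgroup.mem_zpowers_iff.1 (R.genζ u)
  have e : A.L 0 (hd (ζ ^ k)) * (A.L 1 (hd (ζ ^ k)))⁻¹ = (A.L 0 (hd ζ) * (A.L 1 (hd ζ))⁻¹) ^ k := by
    rw [(R.comL (hd ζ) (hd ζ)).inv_right.mul_zpow, inv_zpow, ← map_zpow, ← map_zpow, ← hdHom_apply, map_zpow,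
      hdHom_apply]
  rw [e]
  exact R.rc4.zpow_left k

theorem yt (s : F) : Commute (A.L 0 (tv ve s)) A.y := by
  by_cases hs : s = 0
  · subst hs; simp
  have key : ∀ c : F, Commute (A.L 0 (tv ve c)) A.y → ∀ b : F, b ≠ 0 → Commute (A.L 0 (tv ve (b * b * c))) A.y := by
    intro c hc b hb
    set u := Units.mk0 b hb with hu
    have h1 := (Commute.conj_iff (A.L 0 (hd u) * (A.L 1 (hd u))⁻¹)).2 hc
    rw [R.conj_y (R.yh u)] at h1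
    have h2 : A.L 0 (hd u) * (A.L 1 (hd u))⁻¹ * A.L 0 (tv ve c) * (A.L 0 (hd u) * (A.L 1 (hd u))⁻¹)⁻¹ =
        A.L 0 (tv ve (b * b * c)) := by
      have h3 := (R.comL (tv ve c) (hd u)).inv_right.eq
      calc _ = A.L 0 (hd u) * ((A.L 1 (hd u))⁻¹ * A.L 0 (tv ve c)) * A.L 1 (hd u) * (A.L 0 (hd u))⁻¹ := by group
        _ = A.L 0 (hd u) * A.L 0 (tv ve c) * (A.L 0 (hd u))⁻¹ := by rw [← h3]; group
        _ = _ := by
          rw [← map_inv, ← map_mul, ← map_mul, conj_tv, ac_hd_ve, tv_smul, hu, Units.val_mk0]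
    rwa [h2] at h1
  obtain ⟨b, hb, h | h⟩ := square_class R.genζ s hs
  · rw [h]; exact key 1 R.rc5.1 b hb
  · rw [h]; exact key _ R.rc5.2 b hb

theorem yL (j : Fin (n + 2)) (h0 : j ≠ 0) (h1 : j ≠ 1) (x : SpecialLinearGroup (Fin 2) F) :
    Commute (A.L j x) A.y := by
  obtain ⟨j', h0', h1', hj'⟩ := R.rc3 j h0 h1
  have h2 : Commute (A.L j' x) A.y := by
    refine commute_of_closure (A.L j') A.y ?_ (R.mem_gen x)
    rintro _ ⟨i, rfl⟩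
    exact hj' i
  obtain ⟨σ, s0, s1, sj⟩ := exists_perm_fix1 h0 h1 h0' h1'
  have h3 := (Commute.conj_iff (A.S σ)).2 h2
  rwa [R.S_L, sj, R.conj_y (R.yS σ s0 s1)] at h3

theorem sys1 : A.Sys1 where
  comS := R.comS
  comL := R.comL
  yS := R.yS
  yS01 := R.rc2
  yL := R.yL
  yh := R.yh
  yt := R.yt

theorem Y_eq {π : Perm (Fin (n + 2))} {g h : SpecialLinearGroup (Fin 2) F} {i j : Fin (n + 2)} {v w : Fin 2 → F}
    (hi : π 0 = i) (hj : π 1 = j) (hv : ac g ve = v) (hw : ac h ve = w) : A.Y π g h = A.E i j v w := by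
  rw [← R.sys1.E_eq, hi, hj, hv, hw]

theorem ve_add_ne (c : F) : (ve + c • vf : Fin 2 → F) ≠ 0 := fun h => by simpa using congrFun h 0

theorem sys2 : A.Sys2 (ζ : F) where
  toSys1 := R.sys1
  hζ0 := Units.ne_zero ζ
  hζ := square_class R.genζ
  add1 c hc := by
    have key : ∀ c : F, c ≠ 0 →
        A.y * A.Y 1 1 (gv (c • vf)) = A.L 0 (tv ve (-c)) * A.Y 1 1 (gv (ve + c • vf)) →
        A.E 0 1 ve ve * A.E 0 1 ve (c • vf) = A.L 0 (tv ve (-c)) * A.E 0 1 ve (ve + c • vf) := by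
      intro c hc h
      rwa [R.sys1.y_eq, R.Y_eq (π := 1) (i := 0) (j := 1) rfl rfl (ac_one _) (gv_ve (smul_ne_zero hc vf_ne)),
        R.Y_eq (π := 1) (i := 0) (j := 1) rfl rfl (ac_one _) (gv_ve (ve_add_ne R c))] at h
    rcases hc with rfl | rfl
    · exact key 1 one_ne_zero R.rc7.1
    · exact key _ (Units.ne_zero ζ) R.rc7.2
  com1 j h0 h1 := by
    obtain ⟨π, p0, p1, p2, hπ⟩ := R.rc8 j h0 h1
    rw [R.sys1.y_eq, R.Y_eq p0 rfl (ac_one _) (ac_one _)] at hπ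
    obtain ⟨σ, s0, s1, sj⟩ := exists_perm_fix1 h0 h1 p1 p2
    have h2 := (Commute.conj_iff (A.S σ)).2 hπ
    rwa [R.sys1.E_S σ (by simp), R.sys1.E_S σ p1.symm, s0, s1, sj] at h2
  com2 j h0 h1 := by
    obtain ⟨π, π', p0, p1, p2, q0, q1, hπ⟩ := R.rc9 j h0 h1
    rw [R.sys1.y_eq, R.Y_eq p0 rfl (gv_ve vf_ne) (ac_one _),
      R.Y_eq q0 q1 (gv_ve (neg_ne_zero.2 ve_ne)) (ac_one _)] at hπ
    obtain ⟨σ, s0, s1, sj⟩ := exists_perm_fix1 h0 h1 p1 p2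
    have h2 := congrArg (MulAut.conj (A.S σ)) hπ
    rw [map_mul, map_mul, map_mul, map_inv, R.sys1.conj_S_E (by simp), R.sys1.conj_S_E p1.symm,
      R.sys1.conj_S_E p2.symm, s0, s1, sj] at h2
    exact h2
  com3 j k h0 h1 h2 h3 h4 := by
    obtain ⟨π, p0, p1, p2, p3, hπ⟩ := R.rc10 j k h0 h1 h2 h3 h4
    rw [R.sys1.y_eq, R.Y_eq rfl rfl (ac_one _) (ac_one _)] at hπ
    have hne : π 0 ≠ π 1 := by rw [Ne, π.injective.eq_iff]; simp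
    obtain ⟨σ, s0, s1, sj, sk⟩ := exists_perm_fix2 h0 h1 p0 p1 h2 h3 p2 p3 h4 hne
    have h5 := (Commute.conj_iff (A.S σ)).2 hπ
    rwa [R.sys1.E_S σ (by simp), R.sys1.E_S σ hne, s0, s1, sj, sk] at h5
  sw := by
    have h := R.rc12
    rwa [R.Y_eq (π := 1) (i := 0) (j := 1) rfl rfl (ac_one _) (gv_ve vf_ne),
      R.Y_eq (π := 1) (i := 0) (j := 1) rfl rfl (gv_ve vf_ne) (gv_ve (neg_ne_zero.2 ve_ne))] at h

end Rels

end Pre

end Cfsg.Agent.H111
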